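import Groth.Prelude.Def_Found
import Mathlib.RingTheory.Localization.Integral
import Mathlib.RingTheory.IntegralClosure.IntegralRestrict

/-!
# The normalization of a Nagata domain is finite
-/

namespace Groth.Agent.NormCurve

universe u

theorem finite_integralClosure_of_nagata {R : Type u} [CommRing R] [IsDomain R] (hN : CAlg.IsNagata R)
    (L : Type u) [Field L] [Algebra R L] [IsFractionRing R L] : Module.Finite R (integralClosure R L) := by
  let R' := R ⧸ (⊥ : Ideal R)
  let L₀ := FractionRing R'
  haveI hfin : Module.Finite R' (integralClosure R' L₀) := hN.2 (⊥ : Ideal R) L₀ inferInstance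
  have hbij : Function.Bijective (algebraMap R R') :=
    ⟨fun a b h => by
      rwa [Ideal.Quotient.algebraMap_eq, Ideal.Quotient.eq, Ideal.mem_bot, sub_eq_zero] at h,
      Ideal.Quotient.mk_surjective⟩
  have htow : ∀ a : R, algebraMap R L₀ a = algebraMap R' L₀ (algebraMap R R' a) :=
    fun a => IsScalarTower.algebraMap_apply R R' L₀ a
  haveI : FaithfulSMul R L₀ := (faithfulSMul_iff_algebraMap_injective R L₀).2 fun a b h => by
    rw [htow, htow] at h
    exact hbij.1 (IsFractionRing.injective R' L₀ h)
  haveI : IsFractionRing R L₀ := IsFractionRing.of_field _ _ fun z => by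
    obtain ⟨a, b, -, rfl⟩ := IsFractionRing.div_surjective (A := R') z
    obtain ⟨a, rfl⟩ := hbij.2 a
    obtain ⟨b, rfl⟩ := hbij.2 b
    exact ⟨a, b, by rw [htow, htow]⟩
  haveI : Algebra.IsIntegral R R' :=
    algebraMap_isIntegral_iff.1 (RingHom.isIntegral_of_surjective _ hbij.2)
  haveI : Module.Finite R R' := Module.Finite.of_surjective (Algebra.linearMap R R') hbij.2
  haveI : Module.Finite R (integralClosure R' L₀) := Module.Finite.trans R' _
  let i : integralClosure R' L₀ →ₗ[R] integralClosure R L₀ :=
    { toFun := fun z => ⟨z.1, isIntegral_trans z.1 z.2⟩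
      map_add' := fun _ _ => rfl
      map_smul' := fun _ _ => rfl }
  haveI : Module.Finite R (integralClosure R L₀) :=
    Module.Finite.of_surjective i fun z => ⟨⟨z.1, IsIntegral.tower_top z.2⟩, rfl⟩
  exact Module.Finite.equiv
    (AlgEquiv.mapIntegralClosure (IsLocalization.algEquiv (nonZeroDivisors R) L₀ L)).toLinearEquiv

end Groth.Agent.NormCurve
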