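import Groth.Agent.NormCurve.Branches
import Groth.Agent.NormCurve.Nagata
import Groth.Agent.KFlatLib.Scheme.Exact
import Groth.Prelude.Def_ClSub2
import Mathlib.RingTheory.Length
import Mathlib.Algebra.Module.LocalizedModule.Basic
import Mathlib.Algebra.Category.ModuleCat.Kernels
import Mathlib.AlgebraicGeometry.Morphisms.Finite

/-!
# The cokernel of `O_X → ν_* O_{X^ν}` and the δ-invariant
-/

open CategoryTheory CategoryTheory.Limits AlgebraicGeometry Opposite TopologicalSpace

set_option backward.isDefEq.respectTransparency false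
set_option backward.isDefEq.respectTransparency.types false

namespace Groth.Agent.NormCurve

universe u

variable (X : Scheme.{u}) [IsIntegral X]
  [QuasiCompact (X.fromSpecStalk (genericPoint X))] [QuasiSeparated (X.fromSpecStalk (genericPoint X))]

/-- The generic point is in the range of the normalization. -/
theorem genericPoint_mem_range : genericPoint X ∈ Set.range (Curv2.normalizationι X) := by
  refine ⟨(X.fromSpecStalk (genericPoint X)).toNormalization (IsLocalRing.closedPoint _), ?_⟩
  show ((X.fromSpecStalk (genericPoint X)).toNormalization ≫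
    (X.fromSpecStalk (genericPoint X)).fromNormalization) _ = _
  rw [Scheme.Hom.toNormalization_fromNormalization, Scheme.fromSpecStalk_closedPoint]

theorem app_injective (W : X.Opens) : Function.Injective ((Curv2.normalizationι X).app W) := by
  intro s t h
  rw [← sub_eq_zero, ← AlgebraicGeometry.basicOpen_eq_bot_iff, ← le_bot_iff]
  intro x hx
  obtain ⟨y, hy⟩ := genericPoint_mem_range X
  have h1 : genericPoint X ∈ X.basicOpen (s - t) :=
    (genericPoint_specializes x).mem_open (X.basicOpen (s - t)).isOpen hx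
  rw [← hy] at h1
  have h2 : y ∈ Curv2.normalizationι X ⁻¹ᵁ X.basicOpen (s - t) := h1
  rw [Scheme.preimage_basicOpen, map_sub, h, sub_self, Scheme.basicOpen_zero] at h2
  exact h2.elim

theorem mono_unitToPush : Mono (ClSub.unitToPush (Curv2.normalizationι X)) := by
  refine (KFlatLib.toAb X).mono_of_mono_map ?_
  refine (TopCat.Sheaf.forget AddCommGrpCat.{u} X).mono_of_mono_map ?_
  haveI : ∀ W : (Opens X)ᵒᵖ, Mono (((TopCat.Sheaf.forget AddCommGrpCat.{u} X).map
      ((KFlatLib.toAb X).map (ClSub.unitToPush (Curv2.normalizationι X)))).app W) := fun W =>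
    (AddCommGrpCat.mono_iff_injective _).2 (app_injective X W.unop)
  exact NatTrans.mono_of_mono_app _

/-- The length of the cokernel stalk is the δ-invariant. -/
theorem length_cokernel_stalk (x : X) :
    Module.length (X.presheaf.stalk x)
        ((cokernel (ClSub.unitToPush (Curv2.normalizationι X))).presheaf.stalk x) =
      Curv2.deltaInv (X.presheaf.stalk x) := by
  classical
  let ν := Curv2.normalizationι X
  let A := X.presheaf.stalk x
  let L := FractionRing A
  let M := (Scheme.Modules.pushforward ν).obj (Coh.structureModule (Curv2.normalization X))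
  let T := M.presheaf.stalk x
  obtain ⟨_, ⟨U, hU, rfl⟩, hxU, -⟩ :=
    X.isBasis_affineOpens.exists_subset_of_mem_open (Set.mem_univ x) isOpen_univ
  haveI : Nonempty (U : X.Opens) := ⟨⟨x, hxU⟩⟩
  let p := (hU.primeIdealOf ⟨x, hxU⟩).asIdeal
  letI aS : Algebra Γ(X, U) A := X.presheaf.algebra_section_stalk ⟨x, hxU⟩
  haveI hloc : IsLocalization.AtPrime A p := hU.isLocalization_stalk ⟨x, hxU⟩
  haveI : FaithfulSMul Γ(X, U) L := by
    refine (faithfulSMul_iff_algebraMap_injective _ L).2 ?_
    rw [IsScalarTower.algebraMap_eq Γ(X, U) A L]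
    exact (IsFractionRing.injective A L).comp (germ_injective_of_isIntegral X x hxU)
  haveI : IsFractionRing Γ(X, U) L := IsFractionRing.of_field _ _ fun z => by
    obtain ⟨a, b, hb, rfl⟩ := IsFractionRing.div_surjective (A := A) z
    obtain ⟨⟨a', s⟩, ha⟩ := IsLocalization.surj p.primeCompl a
    obtain ⟨⟨b', t⟩, hb'⟩ := IsLocalization.surj p.primeCompl b
    refine ⟨a' * t, b' * s, ?_⟩
    have hs : algebraMap A L (algebraMap Γ(X, U) A s) ≠ 0 :=
      ((IsLocalization.map_units A s).map (algebraMap A L)).ne_zero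
    have ht : algebraMap A L (algebraMap Γ(X, U) A t) ≠ 0 :=
      ((IsLocalization.map_units A t).map (algebraMap A L)).ne_zero
    rw [map_mul, map_mul, IsScalarTower.algebraMap_apply Γ(X, U) A L a', IsScalarTower.algebraMap_apply Γ(X, U) A L b',
      IsScalarTower.algebraMap_apply Γ(X, U) A L t, IsScalarTower.algebraMap_apply Γ(X, U) A L s, ← ha, ← hb',
      map_mul, map_mul]
    rw [mul_right_comm (algebraMap A L a), mul_div_mul_right _ _ hs, mul_div_mul_right _ _ ht]
  obtain ⟨e, he⟩ := exists_normalizationEquiv X hU ⟨x, hxU⟩ L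
  letI : Module Γ(X, U) T := Module.compHom T (algebraMap Γ(X, U) A)
  haveI : IsScalarTower Γ(X, U) A T := IsScalarTower.of_algebraMap_smul fun r t => rfl
  let C := integralClosure Γ(X, U) L
  let D := integralClosure A L
  -- germs
  have hsmul : ∀ (V : X.Opens) (hxV : x ∈ V) (a : Γ(X, V)) (b : Γ(Curv2.normalization X, ν ⁻¹ᵁ V)),
      M.presheaf.germ V x hxV ((ν.app V a * b : Γ(Curv2.normalization X, ν ⁻¹ᵁ V))) =
        X.presheaf.germ V x hxV a • M.presheaf.germ V x hxV b :=
    fun V hxV a b => PresheafOfModules.germ_smul (M := M.val) x V hxV a b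
  let g : C →ₗ[Γ(X, U)] T :=
    { toFun := fun c => M.presheaf.germ U x hxU (e.symm c)
      map_add' := fun c d => by
        rw [map_add e.symm]
        exact map_add (M.presheaf.germ U x hxU).hom (e.symm c) (e.symm d)
      map_smul' := fun a c => by
        have h1 : e.symm (a • c) = ν.app U a * e.symm c := by
          rw [Algebra.smul_def, map_mul, ← he, e.symm_apply_apply]
        rw [h1]
        exact hsmul U hxU a (e.symm c) }
  let g' : C →ₗ[Γ(X, U)] D :=
    { toFun := fun c => ⟨c.1, c.2.tower_top⟩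
      map_add' := fun _ _ => rfl
      map_smul' := fun _ _ => rfl }
  have hunitA : ∀ s : p.primeCompl, IsUnit (algebraMap Γ(X, U) A s) := fun s => IsLocalization.map_units A s
  haveI : IsLocalizedModule p.primeCompl g' :=
    { map_units := fun s => by
        obtain ⟨u, hu⟩ := hunitA s
        refine (Module.End.isUnit_iff _).2 (Function.bijective_iff_has_inverse.2
          ⟨fun d => (↑u⁻¹ : A) • d, fun d => ?_, fun d => ?_⟩)
        · show (↑u⁻¹ : A) • ((s : Γ(X, U)) • d) = d
          rw [← IsScalarTower.algebraMap_smul A (s : Γ(X, U)) d, ← hu, smul_smul, Units.inv_mul, one_smul]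
        · show (s : Γ(X, U)) • ((↑u⁻¹ : A) • d) = d
          rw [← IsScalarTower.algebraMap_smul A (s : Γ(X, U)) ((↑u⁻¹ : A) • d), ← hu, smul_smul,
            Units.mul_inv, one_smul]
      surj := fun d => by
        obtain ⟨s, hs⟩ := IsIntegral.exists_multiple_integral_of_isLocalization p.primeCompl (d : L) d.2
        exact ⟨⟨⟨_, hs⟩, s⟩, Subtype.ext rfl⟩
      exists_of_eq := fun {c₁ c₂} h => ⟨1, by rw [one_smul, one_smul]; exact Subtype.ext (congrArg Subtype.val h :)⟩ }
  have hW : IsAffineOpen (ν ⁻¹ᵁ U) := hU.preimage ((X.fromSpecStalk (genericPoint X)).fromNormalization)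
  haveI : IsLocalizedModule p.primeCompl g :=
    { map_units := fun s => by
        obtain ⟨u, hu⟩ := hunitA s
        refine (Module.End.isUnit_iff _).2 (Function.bijective_iff_has_inverse.2
          ⟨fun d => (↑u⁻¹ : A) • d, fun d => ?_, fun d => ?_⟩)
        · show (↑u⁻¹ : A) • (algebraMap Γ(X, U) A (s : Γ(X, U)) • d) = d
          rw [← hu, smul_smul, Units.inv_mul, one_smul]
        · show algebraMap Γ(X, U) A (s : Γ(X, U)) • ((↑u⁻¹ : A) • d) = d
          rw [← hu, smul_smul, Units.mul_inv, one_smul]
      surj := fun t => by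
        obtain ⟨V, hxV, b, rfl⟩ := M.presheaf.exists_germ_eq t
        obtain ⟨s, hsV, hxs⟩ := hU.exists_basicOpen_le (V := V) ⟨x, hxV⟩ hxU
        haveI := hW.isLocalization_basicOpen (ν.app U s)
        have e1 : (Curv2.normalization X).basicOpen (ν.app U s) ≤ ν ⁻¹ᵁ V := by
          rw [← Scheme.preimage_basicOpen]
          exact fun y hy => hsV hy
        obtain ⟨⟨b', ⟨_, n, rfl⟩⟩, hb'⟩ := IsLocalization.surj (Submonoid.powers (ν.app U s))
          ((Curv2.normalization X).presheaf.map (homOfLE e1).op b :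
            Γ(Curv2.normalization X, (Curv2.normalization X).basicOpen (ν.app U s)))
        have hsp : s ^ n ∈ p.primeCompl := by
          refine pow_mem (S := p.primeCompl) ?_ n
          exact (IsLocalization.AtPrime.isUnit_to_map_iff A p s).1 ((X.mem_basicOpen s x hxU).1 hxs)
        refine ⟨⟨e b', ⟨s ^ n, hsp⟩⟩, ?_⟩
        show algebraMap Γ(X, U) A (s ^ n) • M.presheaf.germ V x hxV b = M.presheaf.germ U x hxU (e.symm (e b'))
        rw [e.symm_apply_apply]
        let D' := X.basicOpen s
        have hxD : x ∈ D' := hxs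
        have iU : D' ≤ U := X.basicOpen_le s
        rw [← M.presheaf.germ_res_apply (homOfLE hsV) x hxD b, ← M.presheaf.germ_res_apply (homOfLE iU) x hxD b']
        have h2 : algebraMap Γ(X, U) A (s ^ n) =
            X.presheaf.germ D' x hxD (X.presheaf.map (homOfLE iU).op (s ^ n)) :=
          (X.presheaf.germ_res_apply (homOfLE iU) x hxD (s ^ n)).symm
        rw [h2]
        refine (hsmul D' hxD _ _).symm.trans ?_
        congr 1
        have eD : ν ⁻¹ᵁ D' = (Curv2.normalization X).basicOpen (ν.app U s) := Scheme.preimage_basicOpen ν s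
        apply (ConcreteCategory.bijective_of_isIso
          ((Curv2.normalization X).presheaf.map (eqToHom eD.symm).op)).injective
        have hn := congr($(ν.naturality (homOfLE iU).op) (s ^ n))
        simp only [CommRingCat.comp_apply] at hn
        erw [hn]
        refine (map_mul _ _ _).trans ?_
        have rr : ∀ {V₁ V₂ V₃ : (Curv2.normalization X).Opens} (i : V₂ ⟶ V₁) (j : V₃ ⟶ V₂) (k : V₃ ⟶ V₁)
            (z : Γ(Curv2.normalization X, V₁)),
            (Curv2.normalization X).presheaf.map j.op ((Curv2.normalization X).presheaf.map i.op z) =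
              (Curv2.normalization X).presheaf.map k.op z := fun i j k z => by
          rw [← CommRingCat.comp_apply, ← Functor.map_comp, Subsingleton.elim (i.op ≫ j.op) k.op]
        erw [rr _ _ (homOfLE ((Curv2.normalization X).basicOpen_le _)) (ν.app U (s ^ n)), rr _ _ (homOfLE e1) b,
          rr _ _ (homOfLE ((Curv2.normalization X).basicOpen_le _)) b']
        rw [mul_comm, map_pow]
        exact hb'
      exists_of_eq := fun {c₁ c₂} h => by
        refine ⟨1, ?_⟩
        rw [one_smul, one_smul]
        obtain ⟨W, hxW, i₁, i₂, hW'⟩ := M.presheaf.germ_eq x hxU hxU (e.symm c₁) (e.symm c₂) h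
        haveI : IsIntegral (Curv2.normalization X) :=
          inferInstanceAs (IsIntegral (X.fromSpecStalk (genericPoint X)).normalization)
        refine e.symm.injective ?_
        obtain ⟨y, hy⟩ := genericPoint_mem_range X
        have hyW : y ∈ ν ⁻¹ᵁ W := by
          show ν y ∈ W
          rw [hy]
          exact (genericPoint_specializes x).mem_open W.isOpen hxW
        haveI : Nonempty (ν ⁻¹ᵁ W : (Curv2.normalization X).Opens) := ⟨⟨y, hyW⟩⟩
        refine map_injective_of_isIntegral (Curv2.normalization X)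
          (homOfLE (fun z hz => leOfHom i₁ hz) : ν ⁻¹ᵁ W ⟶ ν ⁻¹ᵁ U) ?_
        exact hW' }
  let ε : D ≃ₗ[A] T :=
    (IsLocalizedModule.linearEquiv p.primeCompl g' g).extendScalarsOfIsLocalization p.primeCompl A
  let o : (Coh.structureModule X).presheaf.stalk x :=
    (Coh.structureModule X).presheaf.germ U x hxU (1 : Γ(X, U))
  have ho : ∀ w : (Coh.structureModule X).presheaf.stalk x, ∃ a : A, a • o = w := fun w => by
    obtain ⟨V, hxV, b, rfl⟩ := (Coh.structureModule X).presheaf.exists_germ_eq w
    refine ⟨X.presheaf.germ (U ⊓ V) x ⟨hxU, hxV⟩ (X.presheaf.map (homOfLE inf_le_right).op (show Γ(X, V) from b)), ?_⟩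
    show _ • (Coh.structureModule X).presheaf.germ U x hxU (1 : Γ(X, U)) = _
    rw [← (Coh.structureModule X).presheaf.germ_res_apply (homOfLE (inf_le_left : U ⊓ V ≤ U)) x ⟨hxU, hxV⟩,
      ← (Coh.structureModule X).presheaf.germ_res_apply (homOfLE (inf_le_right : U ⊓ V ≤ V)) x ⟨hxU, hxV⟩ b]
    refine (PresheafOfModules.germ_smul (M := (Coh.structureModule X).val) x (U ⊓ V) ⟨hxU, hxV⟩ _ _).symm.trans ?_
    congr 1
    show (X.presheaf.map (homOfLE (inf_le_right : U ⊓ V ≤ V)).op (show Γ(X, V) from b)) *
      X.presheaf.map (homOfLE (inf_le_left : U ⊓ V ≤ U)).op 1 = _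
    rw [map_one, mul_one]
    rfl
  have hε : ε 1 = Algz.stalkMapₗ (ClSub.unitToPush ν) x o := by
    have h1 : ε (g' 1) = g 1 := IsLocalizedModule.linearEquiv_apply p.primeCompl g' g 1
    have h2 : g' 1 = (1 : D) := Subtype.ext rfl
    rw [← h2, h1]
    show M.presheaf.germ U x hxU (e.symm 1) = _
    rw [map_one]
    refine Eq.trans ?_ (TopCat.Presheaf.stalkFunctor_map_germ_apply U x hxU
      (Scheme.Modules.Hom.mapPresheaf (ClSub.unitToPush ν)) (1 : Γ(X, U))).symm
    exact congrArg (M.presheaf.germ U x hxU) (map_one (ν.app U).hom).symm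
  let iso := PreservesCokernel.iso (DerSch.stalkFunctor X x) (ClSub.unitToPush ν) ≪≫
    ModuleCat.cokernelIsoRangeQuotient _
  refine (LinearEquiv.length_eq iso.toLinearEquiv).trans ?_
  symm
  refine LinearEquiv.length_eq (Submodule.Quotient.equiv _ _ ε ?_)
  ext t
  constructor
  · rintro ⟨_, ⟨a, rfl⟩, rfl⟩
    refine ⟨a • o, ?_⟩
    show Algz.stalkMapₗ (ClSub.unitToPush ν) x (a • o) = ε (algebraMap A D a)
    rw [Algebra.algebraMap_eq_smul_one, map_smul ε, hε, map_smul]
  · rintro ⟨w, rfl⟩
    obtain ⟨a, rfl⟩ := ho w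
    refine ⟨algebraMap A D a, ⟨a, rfl⟩, ?_⟩
    show ε (algebraMap A D a) = Algz.stalkMapₗ (ClSub.unitToPush ν) x (a • o)
    rw [Algebra.algebraMap_eq_smul_one, map_smul ε, hε, map_smul]

theorem deltaInv_of_isField {A : Type u} [CommRing A] (h : IsField A) : Curv2.deltaInv A = 0 := by
  rw [Curv2.deltaInv, Module.length_eq_zero_iff, Submodule.Quotient.subsingleton_iff, LinearMap.range_eq_top]
  intro z
  haveI : Nontrivial A := ⟨h.exists_pair_ne⟩
  obtain ⟨⟨a, s⟩, e⟩ := IsLocalization.surj (nonZeroDivisors A) (z : FractionRing A)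
  obtain ⟨t, ht⟩ := h.mul_inv_cancel (nonZeroDivisors.ne_zero s.2)
  refine ⟨a * t, Subtype.ext ?_⟩
  show algebraMap A (FractionRing A) (a * t) = z.1
  rw [map_mul, ← e, mul_assoc, ← map_mul, ht, map_one, mul_one]

theorem isField_stalk_of_not_isClosed (hdim : topologicalKrullDim X = 1) (x : X) (hx : ¬ IsClosed ({x} : Set X)) :
    IsField (X.presheaf.stalk x) := by
  obtain ⟨z, hz, hzx⟩ : ∃ z, x ⤳ z ∧ z ≠ x := by
    by_contra hcon
    push Not at hcon
    refine hx (closure_eq_iff_isClosed.1 (Set.eq_singleton_iff_unique_mem.2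
      ⟨subset_closure rfl, fun z hz => hcon z (specializes_iff_mem_closure.2 hz)⟩))
  suffices x = genericPoint X by rw [this]; exact Field.toIsField X.functionField
  by_contra hne
  -- three irreducible closed sets of different size
  let c : X → IrreducibleCloseds X := fun y => ⟨closure {y}, isIrreducible_singleton.closure, isClosed_closure⟩
  have hlt : ∀ y y' : X, y ⤳ y' → y' ≠ y → c y' < c y := fun y y' h hne => by
    refine lt_of_le_of_ne (closure_minimal (Set.singleton_subset_iff.2 (specializes_iff_mem_closure.1 h))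
      isClosed_closure) fun e => hne ?_
    have e' : closure ({y'} : Set X) = closure {y} := congrArg IrreducibleCloseds.carrier e
    exact ((specializes_iff_mem_closure.2 (e' ▸ subset_closure rfl)).antisymm h).eq
  have h2 := Order.LTSeries.length_le_krullDim
    (((RelSeries.singleton {p : IrreducibleCloseds X × IrreducibleCloseds X | p.1 < p.2} (c z)).snoc (c x) (hlt x z hz hzx)).snoc (c (genericPoint X)) (by
      simp only [RelSeries.last_snoc]
      exact hlt _ _ (genericPoint_specializes x) hne))
  change _ ≤ topologicalKrullDim X at h2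
  rw [hdim] at h2
  simp at h2

theorem isFinite_normalizationι (hN : ∀ U : X.affineOpens, CAlg.IsNagata Γ(X, (U : X.Opens))) :
    IsFinite (Curv2.normalizationι X) := by
  haveI : IsAffineHom (Curv2.normalizationι X) :=
    inferInstanceAs (IsAffineHom (X.fromSpecStalk (genericPoint X)).fromNormalization)
  refine ⟨fun U hU => ?_⟩
  rcases (U : Set X).eq_empty_or_nonempty with he | hne
  · have e : U = ⊥ := Opens.ext he
    subst e
    haveI : Subsingleton Γ(Curv2.normalization X, Curv2.normalizationι X ⁻¹ᵁ ⊥) := by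
      rw [Scheme.Hom.preimage_bot]; infer_instance
    exact RingHom.Finite.of_surjective _ fun z => ⟨0, Subsingleton.elim _ _⟩
  haveI : Nonempty (U : X.Opens) := hne.to_subtype
  let L := FractionRing Γ(X, U)
  obtain ⟨e, he⟩ := exists_normalizationEquiv X hU hne L
  haveI := finite_integralClosure_of_nagata (hN ⟨U, hU⟩) L
  have h1 : (algebraMap Γ(X, U) (integralClosure Γ(X, U) L)).Finite := RingHom.finite_algebraMap.2 inferInstance
  have h2 : ((Curv2.normalizationι X).app U).hom =
      e.symm.toRingHom.comp (algebraMap Γ(X, U) (integralClosure Γ(X, U) L)) :=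
    RingHom.ext fun a => by
      show _ = e.symm _
      rw [← he, e.symm_apply_apply]
  show ((Curv2.normalizationι X).app U).hom.Finite
  rw [h2]
  exact (RingHom.Finite.of_surjective _ e.symm.surjective).comp h1

/-- The normalization is an isomorphism over some dense open. -/
theorem exists_isIso (hN : ∀ U : X.affineOpens, CAlg.IsNagata Γ(X, (U : X.Opens))) :
    ∃ U : X.Opens, Dense ((U : Set X)) ∧ IsIso (Curv2.normalizationι X ∣_ U) := by
  obtain ⟨_, ⟨U, hU, rfl⟩, hxU, -⟩ := X.isBasis_affineOpens.exists_subset_of_mem_open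
    (Set.mem_univ (genericPoint X)) isOpen_univ
  have hne : (U : Set X).Nonempty := ⟨_, hxU⟩
  haveI : Nonempty (U : X.Opens) := hne.to_subtype
  let R := Γ(X, U)
  let L := FractionRing R
  haveI := finite_integralClosure_of_nagata (hN ⟨U, hU⟩) L
  obtain ⟨S, hS⟩ := Module.Finite.fg_top (R := R) (M := integralClosure R L)
  obtain ⟨⟨f, hf⟩, hfS⟩ := IsLocalization.exist_integer_multiples (nonZeroDivisors R) S
    (fun z => (z : L))
  -- `f` clears all denominators
  have hall : ∀ z : integralClosure R L, ∃ r : R, algebraMap R L r = f • (z : L) := by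
    intro z
    have hz : z ∈ Submodule.span R (S : Set (integralClosure R L)) := hS ▸ Submodule.mem_top
    induction hz using Submodule.span_induction with
    | mem z hz => exact hfS z hz
    | zero => exact ⟨0, by simp⟩
    | add y z _ _ hy hz =>
      obtain ⟨r, hr⟩ := hy
      obtain ⟨r', hr'⟩ := hz
      exact ⟨r + r', by rw [map_add, hr, hr', ← smul_add]; rfl⟩
    | smul a z _ hz =>
      obtain ⟨r, hr⟩ := hz
      exact ⟨a * r, by rw [map_mul, hr, SetLike.val_smul, Algebra.smul_def, Algebra.smul_def, Algebra.smul_def]; ring⟩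
  let V := X.basicOpen f
  have hV : IsAffineOpen V := hU.basicOpen f
  have hfne : f ≠ 0 := nonZeroDivisors.ne_zero hf
  have hgV : genericPoint X ∈ V := ((genericPoint_spec X).mem_open_set_iff V.isOpen).2 (by
    rw [Set.univ_inter]
    by_contra h
    exact hfne ((AlgebraicGeometry.basicOpen_eq_bot_iff f).1 (Opens.ext (Set.not_nonempty_iff_eq_empty.1 h))))
  have hneV : (V : Set X).Nonempty := ⟨_, hgV⟩
  haveI : Nonempty (V : X.Opens) := hneV.to_subtype
  haveI := hU.isLocalization_basicOpen f
  refine ⟨V, V.isOpen.dense hneV, ?_⟩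
  -- `Γ(X, V)` is integrally closed
  let ψ : Γ(X, V) →+* L := IsLocalization.Away.lift f (g := algebraMap R L)
    (IsUnit.mk0 _ (by rw [Ne, map_eq_zero_iff _ (IsFractionRing.injective R L)]; exact hfne))
  letI := ψ.toAlgebra
  haveI : IsScalarTower R Γ(X, V) L := IsScalarTower.of_algebraMap_eq fun r =>
    (IsLocalization.Away.lift_eq f _ r).symm
  haveI : IsFractionRing Γ(X, V) L :=
    IsFractionRing.isFractionRing_of_isDomain_of_isLocalization (Submonoid.powers f) Γ(X, V) L
  obtain ⟨e, he⟩ := exists_normalizationEquiv X hV hneV L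
  have hsurj : Function.Surjective (algebraMap Γ(X, V) (integralClosure Γ(X, V) L)) := by
    intro z
    obtain ⟨⟨_, n, rfl⟩, hn⟩ :=
      IsIntegral.exists_multiple_integral_of_isLocalization (Submonoid.powers f) (z : L) z.2
    obtain ⟨r, hr⟩ := hall ⟨_, hn⟩
    obtain ⟨v, hv⟩ := IsLocalization.Away.algebraMap_isUnit (S := Γ(X, V)) f
    refine ⟨algebraMap R Γ(X, V) r * ↑v⁻¹ ^ (n + 1), Subtype.ext ?_⟩
    show algebraMap Γ(X, V) L (algebraMap R Γ(X, V) r * ↑v⁻¹ ^ (n + 1)) = z
    rw [map_mul, ← IsScalarTower.algebraMap_apply R Γ(X, V) L, hr]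
    show f • ((f ^ n : R) • (z : L)) * _ = _
    rw [Algebra.smul_def, Algebra.smul_def, IsScalarTower.algebraMap_apply R Γ(X, V) L,
      IsScalarTower.algebraMap_apply R Γ(X, V) L (f ^ n), map_pow, ← hv]
    rw [show algebraMap Γ(X, V) L ↑v * (algebraMap Γ(X, V) L (↑v ^ n) * (z : L)) *
        algebraMap Γ(X, V) L (↑v⁻¹ ^ (n + 1)) =
        algebraMap Γ(X, V) L ((↑v : Γ(X, V)) ^ (n + 1) * ↑v⁻¹ ^ (n + 1)) * z by
      simp only [map_mul, map_pow]; ring]
    rw [← mul_pow, Units.mul_inv, one_pow, map_one, one_mul]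
  have hbij : Function.Bijective ((Curv2.normalizationι X).app V) := by
    have h2 : ∀ a, (Curv2.normalizationι X).app V a = e.symm (algebraMap Γ(X, V) (integralClosure Γ(X, V) L) a) :=
      fun a => by rw [← he, e.symm_apply_apply]
    refine ⟨app_injective X V, fun z => ?_⟩
    obtain ⟨a, ha⟩ := hsurj (e z)
    exact ⟨a, by rw [h2, ha, e.symm_apply_apply]⟩
  haveI : IsAffineHom (Curv2.normalizationι X) :=
    inferInstanceAs (IsAffineHom (X.fromSpecStalk (genericPoint X)).fromNormalization)
  haveI : IsAffine V.toScheme := hV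
  haveI : IsAffine ((Curv2.normalizationι X ⁻¹ᵁ V : (Curv2.normalization X).Opens) : Scheme.{u}) :=
    hV.preimage (Curv2.normalizationι X)
  let g : (Curv2.normalizationι X ⁻¹ᵁ V).toScheme ⟶ V.toScheme := Curv2.normalizationι X ∣_ V
  show IsIso g
  have h4 : IsIso g.appTop := by
    have h : (MorphismProperty.isomorphisms CommRingCat) ((Curv2.normalizationι X).resLE V
        (Curv2.normalizationι X ⁻¹ᵁ V) le_rfl).appTop := by
      refine ((MorphismProperty.isomorphisms CommRingCat).arrow_mk_iso_iff
        (arrowResLEAppIso (Curv2.normalizationι X) V _ le_rfl)).2 ?_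
      rw [← Scheme.Hom.app_eq_appLE]
      exact (ConcreteCategory.isIso_iff_bijective _).2 hbij
    rwa [Scheme.Hom.resLE_eq_morphismRestrict] at h
  rw [show g = (Curv2.normalizationι X ⁻¹ᵁ V).toScheme.isoSpec.hom ≫ Spec.map g.appTop ≫
    V.toScheme.isoSpec.inv by rw [← Category.assoc, Iso.eq_comp_inv, Scheme.isoSpec_hom_naturality]]
  infer_instance

end Groth.Agent.NormCurve
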