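import Groth.Agent.NormCurve.Branches
import Groth.Prelude.Def_Pi1
import Mathlib.RingTheory.IntegralClosure.IntegrallyClosed
import Mathlib.RingTheory.DedekindDomain.IntegralClosure

/-!
# The normalization of an integral scheme is normal
-/

open CategoryTheory CategoryTheory.Limits AlgebraicGeometry

set_option backward.isDefEq.respectTransparency false
set_option backward.isDefEq.respectTransparency.types false
set_option linter.style.haveILetI false

namespace Groth.Agent.NormCurve

universe u

variable (X : Scheme.{u}) [IsIntegral X]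
  [QuasiCompact (X.fromSpecStalk (genericPoint X))] [QuasiSeparated (X.fromSpecStalk (genericPoint X))]

theorem isNormalScheme_normalization : Pi1.IsNormalScheme (Curv2.normalization X) := by
  intro y
  obtain ⟨_, ⟨U, hU, rfl⟩, hyU, -⟩ := X.isBasis_affineOpens.exists_subset_of_mem_open
    (Set.mem_univ (Curv2.normalizationι X y)) isOpen_univ
  haveI : Nonempty (U : X.Opens) := ⟨⟨_, hyU⟩⟩
  let L := FractionRing Γ(X, U)
  obtain ⟨e, -⟩ := exists_normalizationEquiv X hU ⟨_, hyU⟩ L
  let C := Γ(Curv2.normalization X, Curv2.normalizationι X ⁻¹ᵁ U)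
  haveI : IsDomain C := e.toMulEquiv.isDomain
  haveI : IsIntegrallyClosed (integralClosure Γ(X, U) L) :=
    integralClosure.isIntegrallyClosedOfFiniteExtension L
  haveI : IsIntegrallyClosed C := IsIntegrallyClosed.of_equiv e.symm
  have hW : IsAffineOpen (Curv2.normalizationι X ⁻¹ᵁ U) :=
    hU.preimage ((X.fromSpecStalk (genericPoint X)).fromNormalization)
  letI := (Curv2.normalization X).presheaf.algebra_section_stalk (⟨y, hyU⟩ : (Curv2.normalizationι X ⁻¹ᵁ U))
  haveI := hW.isLocalization_stalk (⟨y, hyU⟩ : (Curv2.normalizationι X ⁻¹ᵁ U))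
  let p := (hW.primeIdealOf ⟨y, hyU⟩).asIdeal
  haveI : IsDomain ((Curv2.normalization X).presheaf.stalk y) :=
    IsLocalization.isDomain_of_le_nonZeroDivisors (R := C) _ p.primeCompl_le_nonZeroDivisors
  exact ⟨inferInstance, isIntegrallyClosed_of_isLocalization _ p.primeCompl p.primeCompl_le_nonZeroDivisors⟩

end Groth.Agent.NormCurve
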