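import Groth.Prelude.Def_Brnch
import Groth.Prelude.Def_Curv2
import Mathlib.AlgebraicGeometry.Normalization
import Mathlib.AlgebraicGeometry.FunctionField
import Mathlib.AlgebraicGeometry.ResidueField
import Mathlib.FieldTheory.SeparableDegree
import Mathlib.RingTheory.Localization.Integral
import Mathlib.RingTheory.Localization.LocalizationLocalization
import Mathlib.Topology.Instances.ENat
import Mathlib.Topology.Algebra.InfiniteSum.Order

/-!
# Branches of an integral scheme and points of its normalization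
-/

open CategoryTheory CategoryTheory.Limits AlgebraicGeometry

set_option backward.isDefEq.respectTransparency false
set_option backward.isDefEq.respectTransparency.types false

namespace Groth.Agent.NormCurve

universe u

theorem card_sigma_eq_tsum {ι : Type*} (β : ι → Type*) :
    ENat.card (Σ i, β i) = ∑' i, ENat.card (β i) := by
  classical
  refine (HasSum.tsum_eq (hasSum_of_isLUB _ ⟨?_, ?_⟩)).symm
  · rintro _ ⟨s, rfl⟩
    show ∑ i ∈ s, ENat.card (β i) ≤ _
    · have h : ∀ u : Finset ι, ∑ i ∈ u, ENat.card (β i) = ENat.card (Σ i : {i // i ∈ u}, β i.1) := by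
        intro u
        induction u using Finset.induction_on with
        | empty =>
          rw [Finset.sum_empty]
          exact ((ENat.card_eq_zero_iff_empty _).2 ⟨fun x => absurd x.1.2 (Finset.notMem_empty _)⟩).symm
        | @insert a t ha ih =>
          rw [Finset.sum_insert ha, ih, ← ENat.card_sum]
          refine (ENat.card_congr ?_).symm
          exact
          { toFun := fun x => if h : x.1.1 = a then Sum.inl (h ▸ x.2)
              else Sum.inr ⟨⟨x.1.1, (Finset.mem_insert.1 x.1.2).resolve_left h⟩, x.2⟩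
            invFun := fun y => y.elim (fun b => ⟨⟨a, Finset.mem_insert_self _ _⟩, b⟩)
              (fun x => ⟨⟨x.1.1, Finset.mem_insert_of_mem x.1.2⟩, x.2⟩)
            left_inv := by
              rintro ⟨⟨i, hi⟩, b⟩
              by_cases h : i = a
              · subst h; simp
              · simp [h]
            right_inv := by
              rintro (b | ⟨⟨i, hi⟩, b⟩)
              · simp
              · have : i ≠ a := fun h => ha (h ▸ hi)
                simp [this] }
      rw [h]
      exact ENat.card_le_card_of_injective (f := fun x => (⟨x.1.1, x.2⟩ : Σ i, β i)) (by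
        rintro ⟨⟨i, hi⟩, b⟩ ⟨⟨j, hj⟩, c⟩ h
        obtain ⟨rfl, h⟩ := Sigma.mk.inj_iff.1 h
        obtain rfl := eq_of_heq h
        rfl)
  · intro b hb
    have key : ∀ F : Finset (Σ i, β i), (F.card : ℕ∞) ≤ b := by
      intro F
      refine le_trans ?_ (hb ⟨F.image Sigma.fst, rfl⟩)
      show (F.card : ℕ∞) ≤ ∑ i ∈ F.image Sigma.fst, ENat.card (β i)
      rw [Finset.card_eq_sum_card_image Sigma.fst F, Nat.cast_sum]
      refine Finset.sum_le_sum fun i _ => ?_
      have h : ENat.card {x // x ∈ F.filter fun x => x.1 = i} ≤ ENat.card (β i) :=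
        ENat.card_le_card_of_injective
          (f := fun x : {x // x ∈ F.filter fun x => x.1 = i} => (((Finset.mem_filter.1 x.2).2 ▸ x.1.2 : β i))) (by
          rintro ⟨⟨j, c⟩, hj⟩ ⟨⟨j', c'⟩, hj'⟩ h
          have e1 : j = i := (Finset.mem_filter.1 hj).2
          have e2 : j' = i := (Finset.mem_filter.1 hj').2
          subst e1
          subst e2
          simp only at h
          subst h
          rfl)
      refine le_trans (le_of_eq ?_) h
      rw [ENat.card_eq_coe_fintype_card, Fintype.card_coe]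
    rcases finite_or_infinite (Σ i, β i) with hfin | hinf
    · have := Fintype.ofFinite (Σ i, β i)
      rw [ENat.card_eq_coe_fintype_card, ← Finset.card_univ]
      exact key _
    · rw [ENat.card_eq_top_of_infinite]
      refine top_le_iff.2 (ENat.eq_top_iff_forall_ge.2 fun n => ?_)
      obtain ⟨F, hF⟩ := Infinite.exists_subset_card_eq (Σ i, β i) n
      exact hF ▸ key F

variable (X : Scheme.{u}) [IsIntegral X]
  [QuasiCompact (X.fromSpecStalk (genericPoint X))] [QuasiSeparated (X.fromSpecStalk (genericPoint X))]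

/-- Sections of the normalization over the preimage of an affine open. -/
theorem exists_normalizationEquiv {U : X.Opens} (hU : IsAffineOpen U) (hne : (U : Set X).Nonempty)
    (L : Type u) [Field L] [Algebra Γ(X, U) L] [IsFractionRing Γ(X, U) L] :
    ∃ e : Γ(Curv2.normalization X, Curv2.normalizationι X ⁻¹ᵁ U) ≃+* integralClosure Γ(X, U) L,
      ∀ a, e (((Curv2.normalizationι X).app U).hom a) = algebraMap Γ(X, U) (integralClosure Γ(X, U) L) a := by
  let f := X.fromSpecStalk (genericPoint X)
  have : Nonempty U := hne.to_subtype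
  have hgen : genericPoint X ∈ U :=
    ((genericPoint_spec X).mem_open_set_iff U.isOpen).2 (by rwa [Set.univ_inter])
  have htop : f ⁻¹ᵁ U = ⊤ := by
    refine top_le_iff.1 fun z _ => ?_
    show f z ∈ U
    have : f z ∈ Set.range f := ⟨z, rfl⟩
    rw [Scheme.range_fromSpecStalk] at this
    exact this.mem_open U.isOpen hgen
  let σ : X.presheaf.stalk (genericPoint X) ≅ Γ(Spec (X.presheaf.stalk (genericPoint X)), f ⁻¹ᵁ U) :=
    (Scheme.ΓSpecIso _).symm ≪≫ (Spec (X.presheaf.stalk (genericPoint X))).presheaf.mapIso (eqToIso htop).op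
  have happ : f.app U = X.presheaf.germ U (genericPoint X) hgen ≫ σ.hom := by
    rw [Scheme.fromSpecStalk_app hgen]
    rfl
  letI := (f.app U).hom.toAlgebra
  letI : Algebra Γ(X, U) (X.presheaf.stalk (genericPoint X)) :=
    (X.presheaf.germ U (genericPoint X) hgen).hom.toAlgebra
  haveI : IsFractionRing Γ(X, U) (X.presheaf.stalk (genericPoint X)) := by
    convert functionField_isFractionRing_of_isAffineOpen X U hU
  haveI : IsFractionRing Γ(X, U) Γ(Spec (X.presheaf.stalk (genericPoint X)), f ⁻¹ᵁ U) :=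
    IsLocalization.isLocalization_of_algEquiv _
      (AlgEquiv.ofRingEquiv (f := σ.commRingCatIsoToRingEquiv) fun a => (congr($happ a)).symm)
  let τ : Γ(Spec (X.presheaf.stalk (genericPoint X)), f ⁻¹ᵁ U) ≃ₐ[Γ(X, U)] L :=
    IsLocalization.algEquiv (nonZeroDivisors Γ(X, U)) _ _
  let e₁ := (f.normalizationObjIso hU).commRingCatIsoToRingEquiv
  let e₂ : integralClosure Γ(X, U) Γ(Spec (X.presheaf.stalk (genericPoint X)), f ⁻¹ᵁ U) ≃ₐ[Γ(X, U)]
      integralClosure Γ(X, U) L := AlgEquiv.mapIntegralClosure τ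
  refine ⟨e₁.trans e₂.toRingEquiv, fun a => ?_⟩
  have h1 : e₁ ((f.fromNormalization.app U) a) =
      algebraMap Γ(X, U) (integralClosure Γ(X, U) Γ(Spec (X.presheaf.stalk (genericPoint X)), f ⁻¹ᵁ U)) a := by
    show (f.normalizationObjIso hU).hom ((f.fromNormalization.app U) a) = _
    rw [Scheme.Hom.fromNormalization_app f hU]
    exact (f.normalizationObjIso hU).inv_hom_id_apply _
  show e₂ (e₁ ((f.fromNormalization.app U) a)) = _
  rw [h1, e₂.commutes]

set_option maxHeartbeats 2000000 in
/-- The residue field of a point of the normalization over `x`, against a maximal ideal of the normalized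
local ring. -/
theorem branches_data (x : X) :
    ∃ Φ : MaximalSpectrum (CAlg2.normRed (X.presheaf.stalk x)) ≃
        {x' : ↥(Curv2.normalization X) // (Curv2.normalizationι X).base x' = x},
      ∀ m, ENat.card (Brnch.Emb (X.presheaf.stalk x) m) =
        (letI := ((Curv2.normalizationι X).residueFieldMap (Φ m).1).hom.toAlgebra
         ENat.card (Field.Emb (X.residueField ((Curv2.normalizationι X).base (Φ m).1))
           ((Curv2.normalization X).residueField (Φ m).1))) := by
  classical
  let A := X.presheaf.stalk x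
  obtain ⟨_, ⟨U, hU, rfl⟩, hxU, -⟩ := X.isBasis_affineOpens.exists_subset_of_mem_open (Set.mem_univ x) isOpen_univ
  haveI : Nonempty (U : X.Opens) := ⟨⟨x, hxU⟩⟩
  haveI : IsDomain (CAlg2.red A) := by
    haveI : (nilradical A).IsPrime := by rw [nilradical_eq_zero]; exact Ideal.isPrime_bot
    exact Ideal.Quotient.isDomain _
  let L := FractionRing (CAlg2.red A)
  let p := (hU.primeIdealOf ⟨x, hxU⟩).asIdeal
  letI aS : Algebra Γ(X, U) A := X.presheaf.algebra_section_stalk ⟨x, hxU⟩
  haveI hloc : IsLocalization.AtPrime A p := hU.isLocalization_stalk ⟨x, hxU⟩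
  have hredbij : Function.Bijective (Ideal.Quotient.mk (nilradical A)) := by
    refine ⟨fun a b h => ?_, Ideal.Quotient.mk_surjective⟩
    rw [Ideal.Quotient.eq, nilradical_eq_zero, Submodule.zero_eq_bot, Ideal.mem_bot, sub_eq_zero] at h
    exact h
  haveI : IsScalarTower A (CAlg2.red A) L := inferInstance
  haveI : IsFractionRing A L := by
    have hinjA : Function.Injective (algebraMap A L) := by
      rw [IsScalarTower.algebraMap_eq A (CAlg2.red A) L]
      exact (IsFractionRing.injective (CAlg2.red A) L).comp hredbij.1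
    haveI : FaithfulSMul A L := (faithfulSMul_iff_algebraMap_injective A L).2 hinjA
    refine IsFractionRing.of_field _ _ fun z => ?_
    obtain ⟨a, b, hb, rfl⟩ := IsFractionRing.div_surjective (A := CAlg2.red A) z
    obtain ⟨a', rfl⟩ := Ideal.Quotient.mk_surjective a
    obtain ⟨b', rfl⟩ := Ideal.Quotient.mk_surjective b
    exact ⟨a', b', rfl⟩
  haveI : IsScalarTower Γ(X, U) A L := inferInstance
  haveI : FaithfulSMul Γ(X, U) L := by
    refine (faithfulSMul_iff_algebraMap_injective _ L).2 ?_
    rw [IsScalarTower.algebraMap_eq Γ(X, U) A L]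
    exact (IsFractionRing.injective A L).comp (germ_injective_of_isIntegral X x hxU)
  haveI : IsFractionRing Γ(X, U) L := IsFractionRing.of_field _ _ fun z => by
    obtain ⟨a, b, hb, rfl⟩ := IsFractionRing.div_surjective (A := A) z
    obtain ⟨⟨a', s⟩, ha⟩ := IsLocalization.surj p.primeCompl a
    obtain ⟨⟨b', t⟩, hb'⟩ := IsLocalization.surj p.primeCompl b
    refine ⟨a' * t, b' * s, ?_⟩
    have hs : algebraMap A L (algebraMap Γ(X, U) A s) ≠ 0 :=
      ((IsLocalization.map_units A s).map (algebraMap A L)).ne_zero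
    have ht : algebraMap A L (algebraMap Γ(X, U) A t) ≠ 0 :=
      ((IsLocalization.map_units A t).map (algebraMap A L)).ne_zero
    rw [map_mul, map_mul, IsScalarTower.algebraMap_apply Γ(X, U) A L a', IsScalarTower.algebraMap_apply Γ(X, U) A L b',
      IsScalarTower.algebraMap_apply Γ(X, U) A L t, IsScalarTower.algebraMap_apply Γ(X, U) A L s, ← ha, ← hb',
      map_mul, map_mul]
    rw [mul_right_comm (algebraMap A L a), mul_div_mul_right _ _ hs, mul_div_mul_right _ _ ht]
  let C := Γ(Curv2.normalization X, Curv2.normalizationι X ⁻¹ᵁ U)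
  let φ : Γ(X, U) →+* C := ((Curv2.normalizationι X).app U).hom
  obtain ⟨e, he⟩ := exists_normalizationEquiv X hU ⟨x, hxU⟩ L
  let D := CAlg2.normRed A
  let η : A →+* D := (algebraMap (CAlg2.red A) D).comp (Ideal.Quotient.mk (nilradical A))
  have hmemD : ∀ z : L, IsIntegral Γ(X, U) z → z ∈ integralClosure (CAlg2.red A) L := fun z hz =>
    (hz.tower_top (A := A)).tower_top (A := CAlg2.red A)
  let Θ : C →+* D := RingHom.codRestrict
    ((integralClosure Γ(X, U) L).val.toRingHom.comp e.toRingHom)
    (integralClosure (CAlg2.red A) L).toSubring fun c => hmemD _ (e c).2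
  have hΘv : ∀ c, ((Θ c : D) : L) = ((e c : integralClosure Γ(X, U) L) : L) := fun _ => rfl
  have hΘinj : Function.Injective Θ := fun a b h =>
    e.injective (Subtype.ext ((hΘv a).symm.trans ((congrArg Subtype.val h).trans (hΘv b))))
  have hΘφ : ∀ a, Θ (φ a) = η (algebraMap Γ(X, U) A a) := fun a => Subtype.ext (by rw [hΘv, he]; rfl)
  have hηint : η.IsIntegral := by
    refine RingHom.IsIntegral.trans _ _ (RingHom.isIntegral_of_surjective _ Ideal.Quotient.mk_surjective) ?_
    exact algebraMap_isIntegral_iff.2 inferInstance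
  have hfrac : ∀ d : D, ∃ s : Γ(X, U), s ∉ p ∧ ∃ c : C, Θ (φ s) * d = Θ c := by
    intro d
    have hd : IsIntegral A (d : L) := isIntegral_trans (R := A) (A := CAlg2.red A) _ d.2
    obtain ⟨⟨s, hs⟩, hm⟩ := hd.exists_multiple_integral_of_isLocalization p.primeCompl _
    refine ⟨s, hs, e.symm ⟨_, hm⟩, Subtype.ext ?_⟩
    rw [hΘv, e.apply_symm_apply]
    show ((Θ (φ s) : D) : L) * (d : L) = _
    rw [hΘφ]
    exact (Algebra.smul_def (⟨s, hs⟩ : p.primeCompl).1 (d : L)).symm
  -- primes of `C` over `x` and maximal ideals of `D`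
  have hover : ∀ m : MaximalSpectrum D, (m.asIdeal.comap Θ).comap φ = p := fun m => by
    have hmax : (m.asIdeal.comap η).IsMaximal := by
      letI := η.toAlgebra
      haveI : Algebra.IsIntegral A D := algebraMap_isIntegral_iff.1 hηint
      haveI := m.isMaximal
      exact Ideal.isMaximal_comap_of_isIntegral_of_isMaximal (R := A) m.asIdeal
    rw [Ideal.comap_comap, show Θ.comp φ = η.comp (algebraMap Γ(X, U) A) from RingHom.ext hΘφ,
      ← Ideal.comap_comap, IsLocalRing.eq_maximalIdeal hmax]
    exact IsLocalization.AtPrime.comap_maximalIdeal A p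
  have hunit : ∀ (m : MaximalSpectrum D) (s : Γ(X, U)), s ∉ p → Θ (φ s) ∉ m.asIdeal := fun m s hs h =>
    hs ((hover m).subst (motive := fun q => s ∈ q) h)
  have hinj : ∀ m m' : MaximalSpectrum D, m.asIdeal.comap Θ = m'.asIdeal.comap Θ → m = m' := by
    intro m m' h
    ext1
    refine m.isMaximal.eq_of_le m'.isMaximal.ne_top fun d hd => ?_
    obtain ⟨s, hs, c, hc⟩ := hfrac d
    have h1 : c ∈ m.asIdeal.comap Θ := by
      show Θ c ∈ m.asIdeal
      rw [← hc]; exact m.asIdeal.mul_mem_left _ hd
    rw [h] at h1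
    refine (m'.isMaximal.isPrime.mem_or_mem (show Θ (φ s) * d ∈ m'.asIdeal by rw [hc]; exact h1)).resolve_left ?_
    exact hunit m' s hs
  have hsurj : ∀ Q : Ideal C, Q.IsPrime → Q.comap φ = p → ∃ m : MaximalSpectrum D, m.asIdeal.comap Θ = Q := by
    intro Q hQ hQp
    let J : Ideal D :=
      { carrier := {d | ∃ s, s ∉ p ∧ ∃ c ∈ Q, Θ (φ s) * d = Θ c}
        zero_mem' := ⟨1, fun h => (hU.primeIdealOf ⟨x, hxU⟩).2.ne_top ((Ideal.eq_top_iff_one _).2 h), 0, Q.zero_mem,
          by rw [map_zero, mul_zero]⟩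
        add_mem' := by
          rintro a b ⟨s, hs, c, hc, ha⟩ ⟨t, ht, c', hc', hb⟩
          refine ⟨s * t, fun h => ((hU.primeIdealOf ⟨x, hxU⟩).2.mem_or_mem h).elim hs ht,
            φ t * c + φ s * c', Q.add_mem (Q.mul_mem_left _ hc) (Q.mul_mem_left _ hc'), ?_⟩
          rw [map_add, map_mul, map_mul Θ, map_mul Θ, map_mul, ← ha, ← hb]
          ring
        smul_mem' := by
          rintro r a ⟨s, hs, c, hc, ha⟩
          obtain ⟨t, ht, c', hr⟩ := hfrac r
          refine ⟨s * t, fun h => ((hU.primeIdealOf ⟨x, hxU⟩).2.mem_or_mem h).elim hs ht, c' * c,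
            Q.mul_mem_left _ hc, ?_⟩
          rw [map_mul, map_mul, map_mul, ← ha, ← hr, smul_eq_mul]
          ring }
    have hJ : J.comap Θ = Q := by
      ext c
      refine ⟨?_, fun hc => ⟨1, fun h => (hU.primeIdealOf ⟨x, hxU⟩).2.ne_top ((Ideal.eq_top_iff_one _).2 h), c, hc,
        by rw [map_one, map_one, one_mul]⟩⟩
      rintro ⟨s, hs, c', hc', h⟩
      have h1 : φ s * c ∈ Q := by
        rw [show φ s * c = c' from hΘinj (by rw [map_mul]; exact h)]
        exact hc'
      exact (hQ.mem_or_mem h1).resolve_left fun h2 => hs ((hQp).subst (motive := fun q => s ∈ q) h2)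
    have hJne : J ≠ ⊤ := fun h => hQ.ne_top (by rw [← hJ, h, Ideal.comap_top])
    obtain ⟨M, hM, hJM⟩ := Ideal.exists_le_maximal J hJne
    refine ⟨⟨M, hM⟩, ?_⟩
    -- incomparability
    refine (le_antisymm ?_ (hJ.symm.le.trans (Ideal.comap_mono hJM)))
    intro c hc
    by_contra hcQ
    have hle : Q ≤ M.comap Θ := hJ.symm.le.trans (Ideal.comap_mono hJM)
    letI := φ.toAlgebra
    haveI : Algebra.IsIntegral Γ(X, U) C := by
      refine algebraMap_isIntegral_iff.1 ?_
      intro c
      have h2 := (e c).2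
      obtain ⟨P, hP, hPc⟩ := h2
      refine ⟨P, hP, e.injective (Subtype.ext ?_)⟩
      have h3 : e.toRingHom.comp φ = algebraMap Γ(X, U) (integralClosure Γ(X, U) L) := RingHom.ext he
      have h4 : e (P.eval₂ φ c) = P.eval₂ (algebraMap Γ(X, U) (integralClosure Γ(X, U) L)) (e c) := by
        rw [← h3]
        exact Polynomial.hom_eval₂ P φ e.toRingHom c
      rw [map_zero]
      show ((e (P.eval₂ φ c) : integralClosure Γ(X, U) L) : L) = 0
      rw [h4]
      exact (Polynomial.hom_eval₂ P _ (integralClosure Γ(X, U) L).val.toRingHom (e c)).trans hPc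
    haveI := hQ
    haveI := hM.isPrime
    have hlt : Q < M.comap Θ := lt_of_le_of_ne hle fun h => hcQ (h ▸ hc)
    have h5 := Ideal.comap_lt_comap_of_integral_mem_sdiff (R := Γ(X, U)) hle ⟨hc, hcQ⟩ (Algebra.IsIntegral.isIntegral c)
    exact h5.ne (hQp.trans (hover ⟨M, hM⟩).symm)
  -- the bijection with points
  have hW : IsAffineOpen (Curv2.normalizationι X ⁻¹ᵁ U) :=
    hU.preimage ((X.fromSpecStalk (genericPoint X)).fromNormalization)
  have hpt : ∀ m : MaximalSpectrum D, ∃ y : {x' : ↥(Curv2.normalization X) // (Curv2.normalizationι X).base x' = x},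
      hW.fromSpec ⟨m.asIdeal.comap Θ, m.isMaximal.isPrime.comap Θ⟩ = y.1 := by
    intro m
    let Q : PrimeSpectrum C := ⟨m.asIdeal.comap Θ, m.isMaximal.isPrime.comap Θ⟩
    have hy : hW.fromSpec Q ∈ Curv2.normalizationι X ⁻¹ᵁ U := by
      rw [← SetLike.mem_coe, ← hW.range_fromSpec]; exact ⟨_, rfl⟩
    refine ⟨⟨hW.fromSpec Q, ?_⟩, rfl⟩
    have h1 := IsAffineOpen.comap_primeIdealOf_appLE (f := Curv2.normalizationι X) U hU _ hW le_rfl hy
    rw [Scheme.Hom.appLE_eq_app] at h1
    have h2 : hW.primeIdealOf ⟨_, hy⟩ = Q :=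
      hW.fromSpec.isOpenEmbedding.injective (hW.fromSpec_primeIdealOf ⟨_, hy⟩)
    rw [h2] at h1
    have h3 : hU.primeIdealOf ⟨_, hy⟩ = hU.primeIdealOf ⟨x, hxU⟩ := by
      rw [← h1]
      exact PrimeSpectrum.ext (hover m)
    have h4 := congrArg hU.fromSpec h3
    rwa [hU.fromSpec_primeIdealOf, hU.fromSpec_primeIdealOf] at h4
  choose Ψ hΨ using hpt
  have hΨbij : Function.Bijective Ψ := by
    refine ⟨fun m m' h => hinj m m' ?_, ?_⟩
    · have h1 := (hΨ m).trans ((congrArg Subtype.val h).trans (hΨ m').symm)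
      exact congrArg PrimeSpectrum.asIdeal (hW.fromSpec.isOpenEmbedding.injective h1)
    · rintro ⟨y, hy⟩
      have hy' : y ∈ Curv2.normalizationι X ⁻¹ᵁ U := show Curv2.normalizationι X y ∈ U by
        rw [show Curv2.normalizationι X y = x from hy]; exact hxU
      have h1 := IsAffineOpen.comap_primeIdealOf_appLE (f := Curv2.normalizationι X) U hU _ hW le_rfl hy'
      rw [Scheme.Hom.appLE_eq_app] at h1
      obtain ⟨m, hm⟩ := hsurj _ (hW.primeIdealOf ⟨y, hy'⟩).2 (by
        have h2 := congrArg PrimeSpectrum.asIdeal h1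
        subst hy
        exact h2)
      refine ⟨m, Subtype.ext ?_⟩
      rw [← hΨ m]
      show hW.fromSpec _ = y
      exact (congrArg hW.fromSpec (PrimeSpectrum.ext hm)).trans (hW.fromSpec_primeIdealOf ⟨y, hy'⟩)
  refine ⟨Equiv.ofBijective Ψ hΨbij, fun m => ?_⟩
  -- residue fields
  show _ = (letI := ((Curv2.normalizationι X).residueFieldMap (Ψ m).1).hom.toAlgebra
    ENat.card (Field.Emb (X.residueField ((Curv2.normalizationι X).base (Ψ m).1))
      ((Curv2.normalization X).residueField (Ψ m).1)))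
  obtain ⟨⟨y, hy⟩, hym⟩ : ∃ z, Ψ m = z := ⟨_, rfl⟩
  have hQy : hW.fromSpec ⟨m.asIdeal.comap Θ, m.isMaximal.isPrime.comap Θ⟩ = y :=
    (hΨ m).trans (congrArg Subtype.val hym)
  rw [hym]
  subst hy
  have hyW : y ∈ Curv2.normalizationι X ⁻¹ᵁ U := hxU
  letI := (Curv2.normalization X).presheaf.algebra_section_stalk (⟨y, hyW⟩ : (Curv2.normalizationι X ⁻¹ᵁ U))
  haveI := hW.isLocalization_stalk (⟨y, hyW⟩ : (Curv2.normalizationι X ⁻¹ᵁ U))
  have hQ : (hW.primeIdealOf ⟨y, hyW⟩).asIdeal = m.asIdeal.comap Θ := congrArg PrimeSpectrum.asIdeal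
    (hW.fromSpec.isOpenEmbedding.injective ((hW.fromSpec_primeIdealOf ⟨y, hyW⟩).trans hQy.symm))
  -- `κ(y) ≅ D ⧸ m`
  haveI := m.isMaximal
  letI := Ideal.Quotient.field m.asIdeal
  let ρ : C →+* D ⧸ m.asIdeal := (Ideal.Quotient.mk m.asIdeal).comp Θ
  have hρ : ∀ s : (hW.primeIdealOf ⟨y, hyW⟩).asIdeal.primeCompl, IsUnit (ρ s) := fun s =>
    isUnit_iff_ne_zero.2 fun h => s.2 ((SetLike.ext_iff.1 hQ _).2 (Ideal.mem_comap.2 (Ideal.Quotient.eq_zero_iff_mem.1 h)))
  let g : (Curv2.normalization X).presheaf.stalk y →+* D ⧸ m.asIdeal := IsLocalization.lift hρ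
  have hgρ : ∀ c, g (algebraMap C _ c) = ρ c := fun c => IsLocalization.lift_eq hρ c
  let r : A →+* (Curv2.normalization X).presheaf.stalk y := ((Curv2.normalizationι X).stalkMap y).hom
  have hgr : g.comp r = Brnch.toResidue A m := by
    refine IsLocalization.ringHom_ext p.primeCompl (RingHom.ext fun a => ?_)
    show g (r (algebraMap Γ(X, U) A a)) = (Ideal.Quotient.mk m.asIdeal) (η (algebraMap Γ(X, U) A a))
    rw [← hΘφ]
    have h1 : r (algebraMap Γ(X, U) A a) = algebraMap C _ (φ a) :=
      Scheme.Hom.germ_stalkMap_apply (Curv2.normalizationι X) U y hyW a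
    rw [h1, hgρ]
    rfl
  have hgsurj : Function.Surjective g := fun z => by
    obtain ⟨d, rfl⟩ := Ideal.Quotient.mk_surjective z
    obtain ⟨s, hs, c, hc⟩ := hfrac d
    have hs' : φ s ∈ (hW.primeIdealOf ⟨y, hyW⟩).asIdeal.primeCompl := fun h => hunit m s hs (by
      have h' : φ s ∈ (hW.primeIdealOf ⟨y, hyW⟩).asIdeal := h
      rw [hQ] at h'
      exact h')
    refine ⟨IsLocalization.mk' _ c (⟨φ s, hs'⟩ : (hW.primeIdealOf ⟨y, hyW⟩).asIdeal.primeCompl), ?_⟩
    rw [IsLocalization.lift_mk'_spec]
    show Ideal.Quotient.mk m.asIdeal (Θ c) = _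
    rw [← hc, map_mul]
    rfl
  haveI : IsLocalHom g := IsLocalHom.of_surjective g hgsurj
  let gbar : (Curv2.normalization X).residueField y →+* D ⧸ m.asIdeal := IsLocalRing.ResidueField.lift g
  let E : (Curv2.normalization X).residueField y ≃+* D ⧸ m.asIdeal :=
    RingEquiv.ofBijective gbar ⟨gbar.injective, fun z => by
      obtain ⟨w, rfl⟩ := hgsurj z
      exact ⟨(Curv2.normalization X).residue y w, rfl⟩⟩
  letI := ((Curv2.normalizationι X).residueFieldMap y).hom.toAlgebra
  let κ := X.residueField (Curv2.normalizationι X y)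
  let R := (Curv2.normalization X).residueField y
  have hE : ∀ a : A, E (algebraMap κ R (X.residue _ a)) = Brnch.toResidue A m a := fun a => by
    rw [← hgr]
    rfl
  haveI : Algebra.IsAlgebraic κ R := by
    suffices Algebra.IsIntegral κ R from inferInstance
    refine ⟨fun z => ?_⟩
    obtain ⟨d, hd⟩ := Ideal.Quotient.mk_surjective (E z)
    obtain ⟨P, hP, hPd⟩ := hηint d
    refine ⟨P.map (IsLocalRing.residue A), hP.map _, E.injective ?_⟩
    rw [map_zero, Polynomial.eval₂_map]
    refine (Polynomial.hom_eval₂ P _ E.toRingHom z).trans ?_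
    rw [show E.toRingHom.comp ((algebraMap κ R).comp (IsLocalRing.residue A)) =
      (Ideal.Quotient.mk m.asIdeal).comp η from RingHom.ext hE, show E.toRingHom z = _ from hd.symm,
      ← Polynomial.hom_eval₂, hPd, map_zero]
  let K₀ := AlgebraicClosure κ
  have h1 : Nonempty (Brnch.Emb A m ≃ (R →ₐ[κ] K₀)) := by
    refine ⟨{
      toFun := fun σ =>
        { toRingHom := σ.1.comp E.toRingHom
          commutes' := fun r => ?_ }
      invFun := fun τ => ⟨τ.toRingHom.comp E.symm.toRingHom, RingHom.ext fun a => ?_⟩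
      left_inv := fun σ => Subtype.ext (RingHom.ext fun z => congrArg σ.1 (E.apply_symm_apply z))
      right_inv := fun τ => AlgHom.ext fun z => congrArg τ (E.symm_apply_apply z) }⟩
    · obtain ⟨a, rfl⟩ := X.residue_surjective _ r
      show σ.1 (E (algebraMap κ R (X.residue _ a))) = _
      rw [hE]
      exact RingHom.congr_fun σ.2 a
    · show τ (E.symm (Brnch.toResidue A m a)) = Brnch.toClosure A a
      rw [← hE, E.symm_apply_apply]
      exact τ.commutes _
  obtain ⟨h1⟩ := h1
  exact ENat.card_congr (h1.trans (Field.embEquivOfIsAlgClosed κ R K₀).symm)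

theorem numBranchesAt_eq (x : X) :
    Brnch.numBranchesAt X x =
        ENat.card {x' : ↥(Curv2.normalization X) // (Curv2.normalizationι X).base x' = x} ∧
      Brnch.numGeomBranchesAt X x =
        ∑' x' : {x' : ↥(Curv2.normalization X) // (Curv2.normalizationι X).base x' = x},
          (letI := ((Curv2.normalizationι X).residueFieldMap x'.1).hom.toAlgebra
           ENat.card (Field.Emb (X.residueField ((Curv2.normalizationι X).base x'.1))
             ((Curv2.normalization X).residueField x'.1))) := by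
  classical
  obtain ⟨Φ, hΦ⟩ := branches_data X x
  have hfin : (minimalPrimes (X.presheaf.stalk x)).Finite := by
    rw [IsDomain.minimalPrimes_eq_singleton_bot]
    exact Set.finite_singleton _
  constructor
  · show Brnch.numBranches (X.presheaf.stalk x) = _
    rw [Brnch.numBranches, if_pos hfin]
    exact ENat.card_congr Φ
  · show Brnch.numGeomBranches (X.presheaf.stalk x) = _
    rw [Brnch.numGeomBranches, if_pos hfin, card_sigma_eq_tsum, ← Φ.tsum_eq]
    exact tsum_congr hΦ

end Groth.Agent.NormCurve
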