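import Groth.Agent.NormCurve.Algebra
import Groth.Prelude.Def_Curv2
import Mathlib.AlgebraicGeometry.Normalization
import Mathlib.AlgebraicGeometry.FunctionField
import Mathlib.AlgebraicGeometry.Noetherian
import Mathlib.AlgebraicGeometry.ResidueField

/-!
# Normalization of a one-dimensional integral scheme
-/

open CategoryTheory CategoryTheory.Limits AlgebraicGeometry TopologicalSpace

set_option backward.isDefEq.respectTransparency false
set_option backward.isDefEq.respectTransparency.types false

namespace Groth.Agent.NormCurve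

universe u

variable (X : Scheme.{u}) [IsIntegral X] [IsLocallyNoetherian X]
  [QuasiCompact (X.fromSpecStalk (genericPoint X))] [QuasiSeparated (X.fromSpecStalk (genericPoint X))]

/-- The properties of sections of the normalization over the preimage of an affine open. -/
theorem facts_app (hdim : topologicalKrullDim X ≤ 1) {U : X.Opens} (hU : IsAffineOpen U)
    (hne : (U : Set X).Nonempty) :
    IsDomain Γ(Curv2.normalization X, Curv2.normalizationι X ⁻¹ᵁ U) ∧
    IsNoetherianRing Γ(Curv2.normalization X, Curv2.normalizationι X ⁻¹ᵁ U) ∧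
    IsDedekindDomain Γ(Curv2.normalization X, Curv2.normalizationι X ⁻¹ᵁ U) ∧
      (∀ p : Ideal Γ(X, U), {P : PrimeSpectrum Γ(Curv2.normalization X, Curv2.normalizationι X ⁻¹ᵁ U) |
        P.asIdeal.comap ((Curv2.normalizationι X).app U).hom = p}.Finite) ∧
      (∀ P : Ideal Γ(Curv2.normalization X, Curv2.normalizationι X ⁻¹ᵁ U), P.IsPrime → P ≠ ⊥ →
        ((Ideal.Quotient.mk P).comp ((Curv2.normalizationι X).app U).hom).Finite) ∧
      (∀ c : Γ(Curv2.normalization X, Curv2.normalizationι X ⁻¹ᵁ U), ∃ s : Γ(X, U), s ≠ 0 ∧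
        ((Curv2.normalizationι X).app U).hom s ≠ 0 ∧ ∃ a : Γ(X, U),
        ((Curv2.normalizationι X).app U).hom s * c = ((Curv2.normalizationι X).app U).hom a) := by
  let f := X.fromSpecStalk (genericPoint X)
  have : Nonempty U := hne.to_subtype
  have hgen : genericPoint X ∈ U :=
    ((genericPoint_spec X).mem_open_set_iff U.isOpen).2 (by rwa [Set.univ_inter])
  have hN : IsNoetherianRing Γ(X, U) := IsLocallyNoetherian.component_noetherian ⟨U, hU⟩
  have hD : Ring.KrullDimLE 1 Γ(X, U) := by
    rw [Ring.krullDimLE_iff, ← PrimeSpectrum.topologicalKrullDim_eq_ringKrullDim]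
    exact (hU.fromSpec.isOpenEmbedding.isInducing.topologicalKrullDim_le).trans hdim
  -- the generic stalk computes the sections of `f`
  have htop : f ⁻¹ᵁ U = ⊤ := by
    refine top_le_iff.1 fun z _ => ?_
    show f z ∈ U
    have : f z ∈ Set.range f := ⟨z, rfl⟩
    rw [Scheme.range_fromSpecStalk] at this
    exact this.mem_open U.isOpen hgen
  let σ : X.presheaf.stalk (genericPoint X) ≅ Γ(Spec (X.presheaf.stalk (genericPoint X)), f ⁻¹ᵁ U) :=
    (Scheme.ΓSpecIso _).symm ≪≫ (Spec (X.presheaf.stalk (genericPoint X))).presheaf.mapIso (eqToIso htop).op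
  have happ : f.app U = X.presheaf.germ U (genericPoint X) hgen ≫ σ.hom := by
    rw [Scheme.fromSpecStalk_app hgen]
    rfl
  letI : Field Γ(Spec (X.presheaf.stalk (genericPoint X)), f ⁻¹ᵁ U) :=
    (σ.symm.commRingCatIsoToRingEquiv.toMulEquiv.isField (Field.toIsField X.functionField)).toField
  letI := (f.app U).hom.toAlgebra
  letI : Algebra Γ(X, U) (X.presheaf.stalk (genericPoint X)) := (X.presheaf.germ U (genericPoint X) hgen).hom.toAlgebra
  haveI : IsFractionRing Γ(X, U) (X.presheaf.stalk (genericPoint X)) := by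
    convert functionField_isFractionRing_of_isAffineOpen X U hU
  haveI : IsFractionRing Γ(X, U) Γ(Spec (X.presheaf.stalk (genericPoint X)), f ⁻¹ᵁ U) :=
    IsLocalization.isLocalization_of_algEquiv _
      (AlgEquiv.ofRingEquiv (f := σ.commRingCatIsoToRingEquiv) fun a => (congr($happ a)).symm)
  refine facts ((Curv2.normalizationι X).app U).hom
    ((f.normalizationObjIso hU).commRingCatIsoToRingEquiv) fun a => ?_
  show (f.normalizationObjIso hU).hom ((f.fromNormalization.app U) a) = _
  rw [Scheme.Hom.fromNormalization_app f hU]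
  exact (f.normalizationObjIso hU).inv_hom_id_apply _

theorem preimage_isAffine {U : X.Opens} (hU : IsAffineOpen U) :
    IsAffineOpen (Curv2.normalizationι X ⁻¹ᵁ U) :=
  hU.preimage ((X.fromSpecStalk (genericPoint X)).fromNormalization)

theorem isLocallyNoetherian_normalization (hdim : topologicalKrullDim X ≤ 1) :
    IsLocallyNoetherian (Curv2.normalization X) := by
  haveI : IsIntegral (Curv2.normalization X) :=
    inferInstanceAs (IsIntegral (X.fromSpecStalk (genericPoint X)).normalization)
  refine isLocallyNoetherian_of_affine_cover (S := fun U : X.affineOpens =>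
    ⟨Curv2.normalizationι X ⁻¹ᵁ U.1, preimage_isAffine X U.2⟩) ?_ fun U => ?_
  · show ⨆ U : X.affineOpens, Curv2.normalizationι X ⁻¹ᵁ U.1 = ⊤
    rw [← Scheme.Hom.preimage_iSup, iSup_affineOpens_eq_top, Scheme.Hom.preimage_top]
  · by_cases hne : ((U.1 : X.Opens) : Set X).Nonempty
    · exact (facts_app X hdim U.2 hne).2.1
    · have h : Curv2.normalizationι X ⁻¹ᵁ U.1 = ⊥ :=
        Opens.ext (Set.eq_empty_iff_forall_notMem.2 fun y hy => hne ⟨_, hy⟩)
      have : Subsingleton Γ(Curv2.normalization X, Curv2.normalizationι X ⁻¹ᵁ U.1) :=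
        CommRingCat.subsingleton_of_isTerminal ((Curv2.normalization X).sheaf.isTerminalOfEqEmpty h)
      exact isNoetherian_of_finite _ _

theorem finite_fibre (hdim : topologicalKrullDim X ≤ 1) (x : X) :
    (Curv2.normalizationι X ⁻¹' {x}).Finite := by
  obtain ⟨_, ⟨U, hU, rfl⟩, hxU, -⟩ := X.isBasis_affineOpens.exists_subset_of_mem_open (Set.mem_univ x) isOpen_univ
  have hW := preimage_isAffine X hU
  obtain ⟨-, -, -, h4, -, -⟩ := facts_app X hdim hU ⟨x, hxU⟩
  refine ((h4 (hU.primeIdealOf ⟨x, hxU⟩).asIdeal).image hW.fromSpec).subset fun y hy => ?_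
  have hy' : y ∈ Curv2.normalizationι X ⁻¹ᵁ U := show Curv2.normalizationι X y ∈ U by
    rw [show Curv2.normalizationι X y = x from hy]; exact hxU
  refine ⟨hW.primeIdealOf ⟨y, hy'⟩, ?_, hW.fromSpec_primeIdealOf _⟩
  subst hy
  have h1 := IsAffineOpen.comap_primeIdealOf_appLE (f := Curv2.normalizationι X) U hU _ hW le_rfl hy'
  rw [Scheme.Hom.appLE_eq_app] at h1
  exact congrArg PrimeSpectrum.asIdeal h1

theorem finite_residueField (hdim : topologicalKrullDim X ≤ 1) (y : Curv2.normalization X) :
    ((Curv2.normalizationι X).residueFieldMap y).hom.Finite := by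
  haveI : IsIntegral (Curv2.normalization X) :=
    inferInstanceAs (IsIntegral (X.fromSpecStalk (genericPoint X)).normalization)
  obtain ⟨_, ⟨U, hU, rfl⟩, hxU, -⟩ := X.isBasis_affineOpens.exists_subset_of_mem_open
    (Set.mem_univ (Curv2.normalizationι X y)) isOpen_univ
  have hW := preimage_isAffine X hU
  obtain ⟨-, -, hded, -, h5, h6⟩ := facts_app X hdim hU ⟨_, hxU⟩
  let C := Γ(Curv2.normalization X, Curv2.normalizationι X ⁻¹ᵁ U)
  let φ : Γ(X, U) →+* C := ((Curv2.normalizationι X).app U).hom
  let ev : C →+* (Curv2.normalization X).residueField y :=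
    ((Curv2.normalization X).evaluation _ y hxU).hom
  let evX : Γ(X, U) →+* X.residueField (Curv2.normalizationι X y) := (X.evaluation U _ hxU).hom
  let r : X.residueField (Curv2.normalizationι X y) →+* (Curv2.normalization X).residueField y :=
    ((Curv2.normalizationι X).residueFieldMap y).hom
  have hnat : r.comp evX = ev.comp φ :=
    RingHom.ext fun s => Scheme.evaluation_naturality_apply (Curv2.normalizationι X) y hxU s
  -- every element of the residue field is a fraction of sections
  have hsurj : ∀ z, ∃ b d : C, ev d ≠ 0 ∧ z * ev d = ev b := by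
    intro z
    obtain ⟨w, rfl⟩ := (Curv2.normalization X).residue_surjective y z
    letI := (Curv2.normalization X).presheaf.algebra_section_stalk (⟨y, hxU⟩ : (Curv2.normalizationι X ⁻¹ᵁ U))
    haveI := hW.isLocalization_stalk (⟨y, hxU⟩ : (Curv2.normalizationι X ⁻¹ᵁ U))
    obtain ⟨⟨b, d⟩, h⟩ := IsLocalization.surj (hW.primeIdealOf (⟨y, hxU⟩ : (Curv2.normalizationι X ⁻¹ᵁ U))).asIdeal.primeCompl w
    refine ⟨b, d, ?_, ?_⟩
    · exact (IsUnit.map ((Curv2.normalization X).residue y).hom
        (IsLocalization.map_units ((Curv2.normalization X).presheaf.stalk y) d)).ne_zero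
    · show ((Curv2.normalization X).residue y).hom w * _ = _
      exact (map_mul ((Curv2.normalization X).residue y).hom w _).symm.trans
        (congrArg ((Curv2.normalization X).residue y).hom h)
  let P : Ideal C := RingHom.ker ev
  haveI : P.IsPrime := RingHom.ker_isPrime ev
  by_cases hP : P = ⊥
  · refine RingHom.Finite.of_surjective r fun z => ?_
    obtain ⟨b, d, hd, hz⟩ := hsurj z
    have hinj : ∀ c : C, c ≠ 0 → ev c ≠ 0 := fun c hc h => hc (by
      have : c ∈ P := h
      rwa [hP, Ideal.mem_bot] at this)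
    obtain ⟨s, -, hs, a, ha⟩ := h6 b
    obtain ⟨t, -, ht, a', ha'⟩ := h6 d
    refine ⟨evX a * evX t / (evX s * evX a'), ?_⟩
    have h1 : r (evX a) = r (evX s) * ev b := by
      rw [← RingHom.comp_apply, hnat, RingHom.comp_apply, ← ha, map_mul, ← RingHom.comp_apply ev φ s, ← hnat]; rfl
    have h2 : r (evX a') = r (evX t) * ev d := by
      rw [← RingHom.comp_apply, hnat, RingHom.comp_apply, ← ha', map_mul, ← RingHom.comp_apply ev φ t, ← hnat]; rfl
    have hs' : r (evX s) ≠ 0 := by
      rw [← RingHom.comp_apply, hnat]; exact hinj _ hs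
    have ht' : r (evX t) ≠ 0 := by
      rw [← RingHom.comp_apply, hnat]; exact hinj _ ht
    rw [map_div₀, map_mul, map_mul, h1, h2, ← hz]
    field_simp
  · haveI hmax : P.IsMaximal := Ideal.IsPrime.isMaximal (inferInstance : P.IsPrime) hP
    have hevs : Function.Surjective ev := fun z => by
      obtain ⟨b, d, hd, hz⟩ := hsurj z
      obtain ⟨d', i, hi, hdi⟩ := hmax.exists_inv (show d ∉ P from hd)
      refine ⟨b * d', ?_⟩
      have h1 : ev d' * ev d = 1 := by
        rw [← map_mul, show d' * d = 1 - i from eq_sub_of_add_eq hdi, map_sub, map_one,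
          show ev i = 0 from hi, sub_zero]
      rw [map_mul, ← hz, mul_assoc, mul_comm (ev d) (ev d'), h1, mul_one]
    have hcomp : (r.comp evX).Finite := by
      rw [hnat, show ev.comp φ = (RingHom.kerLift ev).comp ((Ideal.Quotient.mk P).comp φ) from rfl]
      refine RingHom.Finite.comp ?_ (h5 P inferInstance hP)
      exact RingHom.Finite.of_surjective _ fun z => by
        obtain ⟨c, rfl⟩ := hevs z
        exact ⟨Ideal.Quotient.mk P c, rfl⟩
    exact hcomp.of_comp_finite

theorem isDedekindDomain_affineOpen (hdim : topologicalKrullDim X ≤ 1) {V : (Curv2.normalization X).Opens}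
    (hV : IsAffineOpen V) (hne : (V : Set (Curv2.normalization X)).Nonempty) :
    IsDedekindDomain Γ(Curv2.normalization X, V) := by
  haveI : IsIntegral (Curv2.normalization X) :=
    inferInstanceAs (IsIntegral (X.fromSpecStalk (genericPoint X)).normalization)
  haveI : Nonempty V := hne.to_subtype
  haveI := isLocallyNoetherian_normalization X hdim
  haveI : IsNoetherianRing Γ(Curv2.normalization X, V) := IsLocallyNoetherian.component_noetherian ⟨V, hV⟩
  haveI : IsDedekindDomainDvr Γ(Curv2.normalization X, V) := by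
    refine { noetherian := IsNoetherian.noetherian, is_dvr_at_nonzero_prime := fun P hP hPp => ?_ }
    let y : Curv2.normalization X := hV.fromSpec ⟨P, hPp⟩
    have hyV : y ∈ V := by
      rw [← SetLike.mem_coe, ← hV.range_fromSpec]
      exact ⟨_, rfl⟩
    have hyP : (hV.primeIdealOf ⟨y, hyV⟩).asIdeal = P :=
      congrArg PrimeSpectrum.asIdeal (hV.fromSpec.isOpenEmbedding.injective (hV.fromSpec_primeIdealOf ⟨y, hyV⟩) :
        hV.primeIdealOf ⟨y, hyV⟩ = ⟨P, hPp⟩)
    obtain ⟨_, ⟨U, hU, rfl⟩, hxU, -⟩ := X.isBasis_affineOpens.exists_subset_of_mem_open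
      (Set.mem_univ (Curv2.normalizationι X y)) isOpen_univ
    have hW := preimage_isAffine X hU
    obtain ⟨hdom, -, hded, -, -, -⟩ := facts_app X hdim hU ⟨_, hxU⟩
    letI aV := (Curv2.normalization X).presheaf.algebra_section_stalk ⟨y, hyV⟩
    haveI hlV : IsLocalization.AtPrime ((Curv2.normalization X).presheaf.stalk y) P := by
      have := hV.isLocalization_stalk ⟨y, hyV⟩
      simp only [hyP] at this
      exact this
    haveI : IsDomain ((Curv2.normalization X).presheaf.stalk y) := inferInstance
    let e : (Curv2.normalization X).presheaf.stalk y ≃ₐ[Γ(Curv2.normalization X, V)] Localization.AtPrime P :=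
      IsLocalization.algEquiv P.primeCompl _ _
    suffices h : IsDiscreteValuationRing ((Curv2.normalization X).presheaf.stalk y) from
      IsDiscreteValuationRing.RingEquivClass.isDiscreteValuationRing e
    have hnf : ¬ IsField ((Curv2.normalization X).presheaf.stalk y) := fun hf => hP <| by
      have h0 : IsLocalRing.maximalIdeal ((Curv2.normalization X).presheaf.stalk y) = ⊥ :=
        IsLocalRing.isField_iff_maximalIdeal_eq.1 hf
      rw [← IsLocalization.AtPrime.comap_maximalIdeal ((Curv2.normalization X).presheaf.stalk y) P, h0,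
        Ideal.under_def, ← RingHom.ker_eq_comap_bot, RingHom.ker_eq_bot_iff_eq_zero]
      exact fun a ha => IsLocalization.injective _ P.primeCompl_le_nonZeroDivisors (ha.trans (map_zero _).symm)
    clear! e
    clear aV hlV
    let Q := (hW.primeIdealOf (⟨y, hxU⟩ : (Curv2.normalizationι X ⁻¹ᵁ U))).asIdeal
    letI := (Curv2.normalization X).presheaf.algebra_section_stalk (⟨y, hxU⟩ : (Curv2.normalizationι X ⁻¹ᵁ U))
    haveI : IsLocalization.AtPrime ((Curv2.normalization X).presheaf.stalk y) Q := hW.isLocalization_stalk (⟨y, hxU⟩ : (Curv2.normalizationι X ⁻¹ᵁ U))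
    have hQ : Q ≠ ⊥ := fun h => hnf <| by
      rw [IsLocalRing.isField_iff_maximalIdeal_eq]
      rw [← IsLocalization.AtPrime.map_eq_maximalIdeal Q ((Curv2.normalization X).presheaf.stalk y), h, Ideal.map_bot]
    exact IsLocalization.AtPrime.isDiscreteValuationRing_of_dedekind_domain
      Γ(Curv2.normalization X, Curv2.normalizationι X ⁻¹ᵁ U) hQ _
  exact IsDedekindDomainDvr.isDedekindDomain _

end Groth.Agent.NormCurve
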