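import Groth.Agent.KrullAki.Basic
import Mathlib.RingTheory.DedekindDomain.Dvr

/-!
# Integral closure of a one-dimensional Noetherian domain in its fraction field
-/

namespace Groth.Agent.NormCurve

open Groth.Agent
open scoped Pointwise

universe u

variable {A K : Type u} [CommRing A] [IsDomain A] [IsNoetherianRing A] [Ring.KrullDimLE 1 A]
  [Field K] [Algebra A K] [IsFractionRing A K]

/-- A ring map isomorphic to the inclusion of `A` in its normalization: Dedekind, with finite fibres and
finite residue extensions. -/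
theorem facts {C : Type u} [CommRing C] (φ : A →+* C) (e : C ≃+* integralClosure A K)
    (he : ∀ a, e (φ a) = algebraMap A (integralClosure A K) a) :
    IsDomain C ∧ IsNoetherianRing C ∧ IsDedekindDomain C ∧
      (∀ p : Ideal A, {P : PrimeSpectrum C | P.asIdeal.comap φ = p}.Finite) ∧
      (∀ P : Ideal C, P.IsPrime → P ≠ ⊥ → ((Ideal.Quotient.mk P).comp φ).Finite) ∧
      (∀ c : C, ∃ s : A, s ≠ 0 ∧ φ s ≠ 0 ∧ ∃ a : A, φ s * c = φ a) := by
  let B := integralClosure A K
  have hN : IsNoetherianRing B := KrullAki.isNoetherianRing_subalgebra B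
  have hD : Ring.KrullDimLE 1 B := KrullAki.krullDimLE_one_subalgebra B
  have hF := KrullAki.isFractionRing_subalgebra B
  have hI : IsIntegrallyClosed B := integralClosure.isIntegrallyClosedOfFiniteExtension K
  have hDed : IsDedekindDomain B :=
    { maximalOfPrime := fun h hp => Ring.krullDimLE_one_iff_of_noZeroDivisors.1 inferInstance _ h hp }
  have hdom : IsDomain C := e.toMulEquiv.isDomain
  have hCN : IsNoetherianRing C := isNoetherianRing_of_ringEquiv B e.symm
  have hCI : IsIntegrallyClosed C := IsIntegrallyClosed.of_equiv e.symm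
  have hCD : Ring.KrullDimLE 1 C := by
    rw [Ring.krullDimLE_iff, ringKrullDim_eq_of_ringEquiv e, ← Ring.krullDimLE_iff]
    exact hD
  have hCded : IsDedekindDomain C :=
    { maximalOfPrime := fun h hp => Ring.krullDimLE_one_iff_of_noZeroDivisors.1 hCD _ h hp }
  refine ⟨hdom, hCN, hCded, fun p => ?_, ?_, ?_⟩
  · have hfin : {Q : PrimeSpectrum B | Q.asIdeal.comap (algebraMap A B) = p}.Finite := by
      by_cases hp : p = ⊥
      · refine Set.Subsingleton.finite fun Q hQ Q' hQ' => PrimeSpectrum.ext ?_
        have h0 : ∀ R : PrimeSpectrum B, R.asIdeal.comap (algebraMap A B) = p → R.asIdeal = ⊥ := by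
          intro R hR
          by_contra hne
          obtain ⟨a, ha, haR⟩ := KrullAki.exists_algebraMap_mem B R.asIdeal hne
          have h1 : a ∈ R.asIdeal.comap (algebraMap A B) := haR
          rw [hR, hp, Ideal.mem_bot] at h1
          exact ha h1
        rw [h0 Q hQ, h0 Q' hQ']
      · obtain ⟨a, hap, ha⟩ := Submodule.exists_mem_ne_zero_of_ne_bot hp
        have := KrullAki.finite_maximalSpectrum_of_mem B ha
        refine ((Set.finite_range fun m : {m : MaximalSpectrum B // algebraMap A B a ∈ m.asIdeal} =>
          m.1.toPrimeSpectrum)).subset fun Q hQ => ?_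
        have haQ : algebraMap A B a ∈ Q.asIdeal := by
          have h1 : a ∈ Q.asIdeal.comap (algebraMap A B) := by rw [hQ]; exact hap
          exact h1
        have hne : Q.asIdeal ≠ ⊥ := fun h => ha (by
          rw [h, Ideal.mem_bot] at haQ
          exact (FaithfulSMul.algebraMap_injective A B) (haQ.trans (map_zero _).symm))
        exact ⟨⟨⟨Q.asIdeal, Ring.krullDimLE_one_iff_of_noZeroDivisors.1 hD _ hne Q.2⟩, haQ⟩, rfl⟩
    refine (hfin.image (PrimeSpectrum.comap e.toRingHom)).subset fun P hP => ?_
    refine ⟨PrimeSpectrum.comap e.symm.toRingHom P, ?_, ?_⟩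
    · show ((P.asIdeal.comap e.symm.toRingHom).comap (algebraMap A B)) = p
      rw [Ideal.comap_comap]
      have : e.symm.toRingHom.comp (algebraMap A B) = φ := RingHom.ext fun a => by
        show e.symm (algebraMap A B a) = φ a
        rw [← he, e.symm_apply_apply]
      rw [this]; exact hP
    · ext x
      show e.symm (e x) ∈ P.asIdeal ↔ x ∈ P.asIdeal
      rw [e.symm_apply_apply]
  · intro P hP hP0
    let Q : Ideal B := P.comap e.symm.toRingHom
    have hQ : Q ≠ ⊥ := fun h => hP0 (by
      refine eq_bot_iff.2 fun x hx => ?_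
      have h1 : e x ∈ Q := by show e.symm (e x) ∈ P; rwa [e.symm_apply_apply]
      rw [h, Ideal.mem_bot] at h1
      exact Ideal.mem_bot.2 (e.injective (h1.trans (map_zero e).symm)))
    obtain ⟨a, ha, haQ⟩ := KrullAki.exists_algebraMap_mem B Q hQ
    obtain ⟨hN', -⟩ := isFiniteLength_iff_isNoetherian_isArtinian.1 (KrullAki.isFiniteLength_quotient B ha)
    letI := ((Ideal.Quotient.mk P).comp φ).toAlgebra
    let g : B →ₗ[A] C ⧸ P :=
      { toFun := fun b => Ideal.Quotient.mk P (e.symm b)
        map_add' := fun x y => by simp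
        map_smul' := fun r x => by
          rw [RingHom.id_apply, Algebra.smul_def, Algebra.smul_def, map_mul, map_mul, ← he, e.symm_apply_apply]
          rfl }
    have hle : (a • (⊤ : Submodule A B)) ≤ LinearMap.ker g := fun x hx => by
      obtain ⟨y, _, rfl⟩ := (Submodule.mem_smul_pointwise_iff_exists _ _ _).1 hx
      rw [LinearMap.mem_ker]
      refine Ideal.Quotient.eq_zero_iff_mem.2 ?_
      rw [Algebra.smul_def, map_mul]
      exact P.mul_mem_right _ haQ
    have : Module.Finite A (C ⧸ P) := Module.Finite.of_surjective (Submodule.liftQ _ g hle) fun x => by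
      obtain ⟨x, rfl⟩ := Ideal.Quotient.mk_surjective x
      exact ⟨Submodule.Quotient.mk (e x), congrArg (Ideal.Quotient.mk P) (e.symm_apply_apply x)⟩
    exact RingHom.finite_algebraMap.2 this
  · intro c
    obtain ⟨⟨a, s⟩, h⟩ := IsLocalization.surj (nonZeroDivisors A) ((e c : B) : K)
    have hs : (s : A) ≠ 0 := nonZeroDivisors.coe_ne_zero s
    refine ⟨s, hs, fun h0 => hs ?_, a, e.injective (Subtype.ext ?_)⟩
    · apply FaithfulSMul.algebraMap_injective A B
      rw [← he, h0, map_zero, map_zero]
    · rw [map_mul, he, he]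
      exact (mul_comm _ _).trans h

end Groth.Agent.NormCurve
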