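import Groth.Agent.NormCurve.Branches

/-!
# The point of the normalization under a maximal ideal of the normalized local ring
-/

open CategoryTheory CategoryTheory.Limits AlgebraicGeometry

set_option backward.isDefEq.respectTransparency false
set_option backward.isDefEq.respectTransparency.types false
set_option linter.style.haveILetI false

namespace Groth.Agent.NormCurve

universe u

variable (X : Scheme.{u}) [IsIntegral X]
  [QuasiCompact (X.fromSpecStalk (genericPoint X))] [QuasiSeparated (X.fromSpecStalk (genericPoint X))]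

local notation "Nloc" x => integralClosure (X.presheaf.stalk x) (FractionRing (X.presheaf.stalk x))

set_option maxHeartbeats 2000000 in
/-- A maximal ideal of the normalization of `O_{X,x}` lies over a point of the normalization over `x`,
whose local ring maps onto the residue field of that ideal. -/
theorem exists_point (x : X) (m : Ideal (Nloc x)) [m.IsMaximal] :
    ∃ y : ↥(Curv2.normalization X), (Curv2.normalizationι X).base y = x ∧
      ∃ g : (Curv2.normalization X).presheaf.stalk y →+* (Nloc x) ⧸ m, Function.Surjective g ∧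
        ∀ a : Γ(X, ⊤), g ((Curv2.normalization X).presheaf.germ ⊤ y trivial ((Curv2.normalizationι X).appTop a)) =
          Ideal.Quotient.mk m (algebraMap (X.presheaf.stalk x) (Nloc x) (X.presheaf.germ ⊤ x trivial a)) := by
  classical
  let A := X.presheaf.stalk x
  obtain ⟨_, ⟨U, hU, rfl⟩, hxU, -⟩ := X.isBasis_affineOpens.exists_subset_of_mem_open (Set.mem_univ x) isOpen_univ
  haveI : Nonempty (U : X.Opens) := ⟨⟨x, hxU⟩⟩
  let L := FractionRing A
  let p := (hU.primeIdealOf ⟨x, hxU⟩).asIdeal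
  letI aS : Algebra Γ(X, U) A := X.presheaf.algebra_section_stalk ⟨x, hxU⟩
  haveI hloc : IsLocalization.AtPrime A p := hU.isLocalization_stalk ⟨x, hxU⟩
  haveI : IsScalarTower Γ(X, U) A L := inferInstance
  haveI : FaithfulSMul Γ(X, U) L := by
    refine (faithfulSMul_iff_algebraMap_injective _ L).2 ?_
    rw [IsScalarTower.algebraMap_eq Γ(X, U) A L]
    exact (IsFractionRing.injective A L).comp (germ_injective_of_isIntegral X x hxU)
  haveI : IsFractionRing Γ(X, U) L := IsFractionRing.of_field _ _ fun z => by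
    obtain ⟨a, b, hb, rfl⟩ := IsFractionRing.div_surjective (A := A) z
    obtain ⟨⟨a', s⟩, ha⟩ := IsLocalization.surj p.primeCompl a
    obtain ⟨⟨b', t⟩, hb'⟩ := IsLocalization.surj p.primeCompl b
    refine ⟨a' * t, b' * s, ?_⟩
    have hs : algebraMap A L (algebraMap Γ(X, U) A s) ≠ 0 :=
      ((IsLocalization.map_units A s).map (algebraMap A L)).ne_zero
    have ht : algebraMap A L (algebraMap Γ(X, U) A t) ≠ 0 :=
      ((IsLocalization.map_units A t).map (algebraMap A L)).ne_zero
    rw [map_mul, map_mul, IsScalarTower.algebraMap_apply Γ(X, U) A L a', IsScalarTower.algebraMap_apply Γ(X, U) A L b',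
      IsScalarTower.algebraMap_apply Γ(X, U) A L t, IsScalarTower.algebraMap_apply Γ(X, U) A L s, ← ha, ← hb',
      map_mul, map_mul]
    rw [mul_right_comm (algebraMap A L a), mul_div_mul_right _ _ hs, mul_div_mul_right _ _ ht]
  let C := Γ(Curv2.normalization X, Curv2.normalizationι X ⁻¹ᵁ U)
  let φ : Γ(X, U) →+* C := ((Curv2.normalizationι X).app U).hom
  obtain ⟨e, he⟩ := exists_normalizationEquiv X hU ⟨x, hxU⟩ L
  let D := integralClosure A L
  let η : A →+* D := algebraMap A D
  let Θ : C →+* D := RingHom.codRestrict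
    ((integralClosure Γ(X, U) L).val.toRingHom.comp e.toRingHom)
    (integralClosure A L).toSubring fun c => IsIntegral.tower_top (A := A) (e c).2
  have hΘv : ∀ c, ((Θ c : D) : L) = ((e c : integralClosure Γ(X, U) L) : L) := fun _ => rfl
  have hΘφ : ∀ a, Θ (φ a) = η (algebraMap Γ(X, U) A a) := fun a => Subtype.ext (by rw [hΘv, he]; rfl)
  have hfrac : ∀ d : D, ∃ s : Γ(X, U), s ∉ p ∧ ∃ c : C, Θ (φ s) * d = Θ c := by
    intro d
    obtain ⟨⟨s, hs⟩, hm⟩ := IsIntegral.exists_multiple_integral_of_isLocalization p.primeCompl (d : L) d.2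
    refine ⟨s, hs, e.symm ⟨_, hm⟩, Subtype.ext ?_⟩
    rw [hΘv, e.apply_symm_apply]
    show ((Θ (φ s) : D) : L) * (d : L) = _
    rw [hΘφ]
    exact (Algebra.smul_def (⟨s, hs⟩ : p.primeCompl).1 (d : L)).symm
  have hover : (m.comap Θ).comap φ = p := by
    rw [Ideal.comap_comap, show Θ.comp φ = η.comp (algebraMap Γ(X, U) A) from RingHom.ext hΘφ,
      ← Ideal.comap_comap, IsLocalRing.eq_maximalIdeal (Ideal.isMaximal_comap_of_isIntegral_of_isMaximal (R := A) m)]
    exact IsLocalization.AtPrime.under_maximalIdeal A p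
  have hunit : ∀ s : Γ(X, U), s ∉ p → Θ (φ s) ∉ m := fun s hs h =>
    hs (hover.subst (motive := fun q => s ∈ q) h)
  have hW : IsAffineOpen (Curv2.normalizationι X ⁻¹ᵁ U) :=
    hU.preimage ((X.fromSpecStalk (genericPoint X)).fromNormalization)
  let Q : PrimeSpectrum C := ⟨m.comap Θ, (Ideal.IsMaximal.isPrime ‹_›).comap Θ⟩
  have hyW : hW.fromSpec Q ∈ Curv2.normalizationι X ⁻¹ᵁ U := by
    rw [← SetLike.mem_coe, ← hW.range_fromSpec]; exact ⟨_, rfl⟩
  have h2 : hW.primeIdealOf ⟨_, hyW⟩ = Q :=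
    hW.fromSpec.isOpenEmbedding.injective (hW.fromSpec_primeIdealOf ⟨_, hyW⟩)
  refine ⟨hW.fromSpec Q, ?_, ?_⟩
  · have h1 := IsAffineOpen.comap_primeIdealOf_appLE (f := Curv2.normalizationι X) U hU _ hW le_rfl hyW
    rw [Scheme.Hom.appLE_eq_app, h2] at h1
    have h3 : hU.primeIdealOf ⟨_, hyW⟩ = hU.primeIdealOf ⟨x, hxU⟩ := by
      rw [← h1]
      exact PrimeSpectrum.ext hover
    have h4 := congrArg hU.fromSpec h3
    rwa [hU.fromSpec_primeIdealOf, hU.fromSpec_primeIdealOf] at h4
  generalize hW.fromSpec Q = y at hyW h2 ⊢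
  letI := (Curv2.normalization X).presheaf.algebra_section_stalk (⟨y, hyW⟩ : (Curv2.normalizationι X ⁻¹ᵁ U))
  haveI := hW.isLocalization_stalk (⟨y, hyW⟩ : (Curv2.normalizationι X ⁻¹ᵁ U))
  letI := Ideal.Quotient.field m
  let ρ : C →+* D ⧸ m := (Ideal.Quotient.mk m).comp Θ
  have hQ : (hW.primeIdealOf ⟨y, hyW⟩).asIdeal = m.comap Θ := congrArg PrimeSpectrum.asIdeal h2
  have hρ : ∀ s : (hW.primeIdealOf ⟨y, hyW⟩).asIdeal.primeCompl, IsUnit (ρ s) := fun s =>
    isUnit_iff_ne_zero.2 fun h => s.2 ((SetLike.ext_iff.1 hQ _).2 (Ideal.mem_comap.2 (Ideal.Quotient.eq_zero_iff_mem.1 h)))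
  refine ⟨IsLocalization.lift hρ, fun z => ?_, fun a => ?_⟩
  · obtain ⟨d, rfl⟩ := Ideal.Quotient.mk_surjective z
    obtain ⟨s, hs, c, hc⟩ := hfrac d
    have hs' : φ s ∈ (hW.primeIdealOf ⟨y, hyW⟩).asIdeal.primeCompl := fun h => hunit s hs (by
      have h' : φ s ∈ (hW.primeIdealOf ⟨y, hyW⟩).asIdeal := h
      rw [hQ] at h'
      exact h')
    refine ⟨IsLocalization.mk' _ c (⟨φ s, hs'⟩ : (hW.primeIdealOf ⟨y, hyW⟩).asIdeal.primeCompl), ?_⟩
    rw [IsLocalization.lift_mk'_spec]
    show Ideal.Quotient.mk m (Θ c) = _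
    rw [← hc, map_mul]
    rfl
  · let a' : Γ(X, U) := X.presheaf.map (homOfLE le_top).op a
    have e1 : X.presheaf.germ ⊤ x trivial a = algebraMap Γ(X, U) A a' :=
      (TopCat.Presheaf.germ_res_apply X.presheaf (homOfLE le_top) x hxU a).symm
    have e2 : (Curv2.normalization X).presheaf.germ ⊤ y trivial ((Curv2.normalizationι X).appTop a) =
        algebraMap C ((Curv2.normalization X).presheaf.stalk y) (φ a') := by
      show _ = (Curv2.normalization X).presheaf.germ _ y hyW ((Curv2.normalizationι X).app U a')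
      rw [← Scheme.Hom.germ_stalkMap_apply (Curv2.normalizationι X) U y hyW,
        TopCat.Presheaf.germ_res_apply, Scheme.Hom.germ_stalkMap_apply]
      rfl
    rw [e2, IsLocalization.lift_eq, e1, RingHom.comp_apply, hΘφ]

end Groth.Agent.NormCurve
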